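import Groth.Agent.SplitHom.SameRank
import Groth.Agent.QuotTorus.Split

/-!
# Characters of tori which are nontrivial on every fibre are faithfully flat
-/

set_option autoImplicit false
set_option backward.isDefEq.respectTransparency false
set_option backward.isDefEq.respectTransparency.types false
set_option linter.style.haveILetI false

universe u

open CategoryTheory CategoryTheory.Limits MonoidalCategory CartesianMonoidalCategory MonObj AlgebraicGeometry

noncomputable section

namespace Groth.Agent.RankOneCellLib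

open FixedSmooth HomTriv SplitHom

variable {S : Scheme.{u}}

/-- Flat and surjective. -/
abbrev FS : MorphismProperty Scheme.{u} := @Flat ⊓ @Surjective

variable {T H : Over S} [GrpObj T] [GrpObj H] (α : T ⟶ H) [IsMonHom α]

theorem pullback_map_eq_one_iff {S' : Scheme.{u}} (g : S' ⟶ S) :
    (Over.pullback g).map α = 1 ↔ pullback.fst T.hom g ≫ α.left = pullback.fst T.hom g ≫ (1 : T ⟶ H).left := by
  have h1 : (Over.pullback g).map (1 : T ⟶ H) = 1 := Functor.map_one _
  rw [← h1, ← (Over.mapPullbackAdj g).homEquiv _ _ |>.symm.injective.eq_iff (a := (Over.pullback g).map α)]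
  simp only [Adjunction.homEquiv_counit]
  have hn : ∀ β : T ⟶ H, (Over.map g).map ((Over.pullback g).map β) ≫ (Over.mapPullbackAdj g).counit.app H =
      (Over.mapPullbackAdj g).counit.app T ≫ β := fun β => (Over.mapPullbackAdj g).counit.naturality β
  rw [hn, hn]
  refine ⟨fun h => ?_, fun h => Over.OverMorphism.ext ?_⟩
  · exact congrArg CommaMorphism.left h
  · exact h

theorem pullback_map_eq_one_of_cover {S' S'' : Scheme.{u}} (g : S' ⟶ S) (k : S'' ⟶ S') [Flat k] [Surjective k]
    (g' : S'' ⟶ S) (hk : k ≫ g = g') (h : (Over.pullback g').map α = 1) : (Over.pullback g).map α = 1 := by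
  rw [pullback_map_eq_one_iff] at h ⊢
  have hsnd := SplitHom.isPullback_snd T k hk
  let m : pullback T.hom g' ⟶ pullback T.hom g := pullback.lift (pullback.fst T.hom g') (pullback.snd T.hom g' ≫ k)
    (by rw [Category.assoc, hk, pullback.condition])
  haveI : Flat m := MorphismProperty.of_isPullback hsnd.flip ‹Flat k›
  haveI : Surjective m := MorphismProperty.of_isPullback hsnd.flip ‹Surjective k›
  haveI := Flat.epi_of_flat_of_surjective m
  refine (cancel_epi m).1 ?_
  rwa [pullback.lift_fst_assoc, pullback.lift_fst_assoc]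

theorem pullback_map_eq_one_of_base {S' S'' : Scheme.{u}} (g : S' ⟶ S) (k : S'' ⟶ S')
    (g' : S'' ⟶ S) (hk : k ≫ g = g') (h : (Over.pullback g).map α = 1) : (Over.pullback g').map α = 1 := by
  rw [pullback_map_eq_one_iff] at h ⊢
  have := congrArg (fun z => (pullback.lift (pullback.fst T.hom g') (pullback.snd T.hom g' ≫ k)
      (by rw [Category.assoc, hk, pullback.condition]) : pullback T.hom g' ⟶ pullback T.hom g) ≫ z) h
  simpa using this

/-- Over a field on which both groups are split with torsion-free character group of the source, a character is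
faithfully flat iff it is nontrivial. -/
theorem flatSurj_iff_ne_one {T : Over S} [GrpObj T] [IsAffineHom T.hom] [IsAffineHom (Red.Gm S).hom]
    (α : T ⟶ Red.Gm S) [IsMonHom α] {k : Type u} [Field k] {j : Spec (CommRingCat.of k) ⟶ S} {r : ℕ}
    (σ : Split T j (Fin r → ℤ)) : FS ((Over.pullback j).map α).left ↔ (Over.pullback j).map α ≠ 1 := by
  let B : CommRingCat.{u} := CommRingCat.of k
  let τ : Split (Red.Gm S) j ℤ := QuotTorus.dsSplit ℤ j
  let P : PrimeSpectrum B := ⟨⊥, Ideal.isPrime_bot⟩
  obtain ⟨f, φ, hf, hφ⟩ := exists_char_hom σ τ α P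
  have hunit : IsUnit ((𝟙 B : B ⟶ B).hom f) := IsUnit.mk0 (G₀ := k) f fun h => hf (by
    show f ∈ (⊥ : Ideal B)
    exact h)
  have hc := hφ (𝟙 B) hunit
  have hiff : FS ((Over.pullback (Spec.map (𝟙 B) ≫ j)).map α).left ↔ Function.Injective φ :=
    chart_iff FS _ charIff_flat_surjective σ τ α φ (𝟙 B) hc
  have ej : Spec.map (𝟙 B) ≫ j = j := by rw [Spec.map_id, Category.id_comp]
  rw [ej] at hiff
  rw [hiff]
  -- the universal point of the trivial character
  have htriv : (univ (res σ (𝟙 B))).left ≫ (1 : T ⟶ Red.Gm S).left =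
      Spec.map (gev (gc B (Fin r → ℤ)) 1) ≫ (univ (res τ (𝟙 B))).left := by
    rw [← pt_left (res τ (𝟙 B)) (gc B (Fin r → ℤ)) 1, map_one, ← Over.comp_left, MonObj.comp_one]
  let eT := (isPullback_univ (res σ (𝟙 B))).isoPullback
  have hdet : (univ (res σ (𝟙 B))).left ≫ α.left = (univ (res σ (𝟙 B))).left ≫ (1 : T ⟶ Red.Gm S).left ↔ φ = 1 := by
    rw [htriv, hc]
    constructor
    · intro h
      have h' : Spec.map (CommRingCat.ofHom (MonoidAlgebra.mapDomainRingHom B φ)) =
          Spec.map (gev (gc B (Fin r → ℤ)) 1) := (isPullback_univ (res τ (𝟙 B))).hom_ext h (by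
        rw [← Spec.map_comp, ← Spec.map_comp]
        congr 1
        exact CommRingCat.hom_ext (RingHom.ext fun c => by
          simp [MonoidAlgebra.mapDomainRingHom, L_comp_single]))
      refine MonoidHom.ext fun m => ?_
      have := DFunLike.congr_fun (congrArg CommRingCat.Hom.hom (Spec.map_injective h'))
        (MonoidAlgebra.of B (Multiplicative ℤ) m)
      have h2 := (DFunLike.congr_fun (L_comp_of (gc B (Fin r → ℤ)).hom (1 : Multiplicative ℤ →* GA B (Fin r → ℤ))) m)
      rw [show (gev (gc B (Fin r → ℤ)) 1).hom (MonoidAlgebra.of B (Multiplicative ℤ) m) = 1 from h2] at this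
      show φ m = 1
      simp only [CommRingCat.hom_ofHom, MonoidAlgebra.mapDomainRingHom, MonoidAlgebra.of_apply] at this
      refine MonoidAlgebra.of_injective (R := B) ?_
      simpa [MonoidAlgebra.one_def] using this.trans MonoidAlgebra.one_def
    · rintro rfl
      congr 2
      refine CommRingCat.hom_ext (MonoidAlgebra.ringHom_ext (fun c => ?_) (fun m => ?_))
      · simp [MonoidAlgebra.mapDomainRingHom, L_single]
      · simp [MonoidAlgebra.mapDomainRingHom, L_single, MonoidAlgebra.one_def]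
  have hone : (Over.pullback j).map α = 1 ↔ φ = 1 := by
    rw [← hdet, pullback_map_eq_one_iff]
    have hj : ∀ {j' : Spec B ⟶ S} (_ : j' = j) (β δ : T.left ⟶ (Red.Gm S).left),
        pullback.fst T.hom j' ≫ β = pullback.fst T.hom j' ≫ δ ↔ pullback.fst T.hom j ≫ β = pullback.fst T.hom j ≫ δ := by
      rintro j' rfl β δ; rfl
    rw [← hj ej, ← cancel_epi eT.hom, (isPullback_univ (res σ (𝟙 B))).isoPullback_hom_fst_assoc,
      (isPullback_univ (res σ (𝟙 B))).isoPullback_hom_fst_assoc]
  refine (not_iff_not.1 ?_)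
  rw [ne_eq, not_not, hone]
  refine ⟨fun h => ?_, fun h hi => ?_⟩
  · by_contra hne
    refine h fun x y hxy => ?_
    let ψ : ℤ →+ (Fin r → ℤ) := MonoidHom.toAdditive φ
    have hx : ψ x.toAdd = ψ y.toAdd := congrArg Multiplicative.toAdd hxy
    have h1 : ψ 1 ≠ 0 := fun h0 => hne (MonoidHom.ext fun m => by
      have : ψ m.toAdd = 0 := by rw [← smul_eq_mul m.toAdd 1 |>.trans (_root_.mul_one _), map_zsmul, h0, smul_zero]
      exact Multiplicative.toAdd.injective this)
    have h2 : (x.toAdd - y.toAdd) • ψ 1 = 0 := by rw [← map_zsmul, smul_eq_mul, _root_.mul_one, map_sub, hx, sub_self]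
    exact Multiplicative.toAdd.injective (sub_eq_zero.1 ((smul_eq_zero.1 h2).resolve_right h1))
  · rw [h] at hi
    exact absurd (@hi (Multiplicative.ofAdd 1) (Multiplicative.ofAdd 0) rfl) (by decide)

/-- Every field-valued point can be extended to one over which the torus is split. -/
theorem exists_split_point {T : Over S} [GrpObj T] (hT : Red.IsTorus T) {K : Type u} [Field K]
    (j₀ : Spec (CommRingCat.of K) ⟶ S) :
    ∃ (L : Type u) (_ : Field L) (k : Spec (CommRingCat.of L) ⟶ Spec (CommRingCat.of K)) (r : ℕ),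
      Flat k ∧ Surjective k ∧ Nonempty (Split T (k ≫ j₀) (Fin r → ℤ)) := by
  obtain ⟨S', f, hfl, hfs, -, hloc⟩ := hT
  haveI := hfs
  haveI : Surjective (pullback.fst j₀ f) := MorphismProperty.pullback_fst _ _ inferInstance
  obtain ⟨z, -⟩ := (pullback.fst j₀ f).surjective (IsLocalRing.closedPoint K)
  let L := (pullback j₀ f).residueField z
  let p := (pullback j₀ f).fromSpecResidueField z
  let a : Spec L ⟶ Spec (CommRingCat.of K) := p ≫ pullback.fst j₀ f
  let b : Spec L ⟶ S' := p ≫ pullback.snd j₀ f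
  obtain ⟨U, hU, r, ⟨e⟩⟩ := hloc (pullback.snd j₀ f z)
  have hb : Set.range b ⊆ Set.range U.ι := by
    rintro _ ⟨y, rfl⟩
    rw [Scheme.Opens.range_ι]
    show (pullback.snd j₀ f) (p y) ∈ U
    rwa [Scheme.fromSpecResidueField_apply]
  obtain ⟨σ⟩ := exists_split (U.ι ≫ f) (Fin r → ℤ) e
  refine ⟨L, inferInstance, a, r, ?_, ⟨fun w => ⟨IsLocalRing.closedPoint L, ?_⟩⟩,
    ⟨σ.comp (IsOpenImmersion.lift U.ι b hb) ?_⟩⟩
  · obtain ⟨n, hn⟩ := Spec.map_surjective a
    rw [← hn]
    exact (HasRingHomProperty.Spec_iff (P := @Flat)).2 (MonoFibre.flat_of_field _)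
  · exact @Subsingleton.elim _ (inferInstanceAs (Subsingleton (PrimeSpectrum K))) _ _
  · rw [IsOpenImmersion.lift_fac_assoc]
    simp only [a, b, Category.assoc, pullback.condition]

variable {T : Over S} [GrpObj T] (hT : Red.IsTorus T) (α : T ⟶ Red.Gm S) [IsMonHom α]

include hT in
/-- On a field-valued point a character is faithfully flat iff it is nontrivial. -/
theorem flatSurj_iff_ne_one' {K : Type u} [Field K] (j₀ : Spec (CommRingCat.of K) ⟶ S) :
    FS ((Over.pullback j₀).map α).left ↔ (Over.pullback j₀).map α ≠ 1 := by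
  haveI : IsAffineHom T.hom := isAffineHom_of_isMultTypeLoc
    (WeilClosedLib.IsMultTypeLoc.of_isMultTypeFT (isMultTypeFT_of_isTorus hT))
  haveI : IsAffineHom (Red.Gm S).hom := FixedSmooth.isAffineHom_DS S ℤ
  obtain ⟨L, _, k, r, _, _, ⟨σ⟩⟩ := exists_split_point hT j₀
  have h := flatSurj_iff_ne_one α σ
  refine ⟨fun h₀ h1 => h.1 (of_base FS α k rfl h₀) (pullback_map_eq_one_of_base α j₀ k _ rfl h1),
    fun h1 => of_fpqc FS α k rfl (h.2 fun h2 => h1 (pullback_map_eq_one_of_cover α j₀ k _ rfl h2))⟩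

include hT in
/-- A character nontrivial on every geometric fibre is faithfully flat. -/
theorem flatSurj_of_geomFibre_ne_one (hα : ∀ s : S, (Over.pullback (Red.geomPt s)).map α ≠ 1) :
    Flat α.left ∧ Surjective α.left := by
  have hT' := isMultTypeFT_of_isTorus hT
  have hGm : SGA3x.IsMultTypeFT (Red.Gm S) := ⟨S, 𝟙 S, inferInstance, inferInstance,
    fun V hV => ⟨V, hV.isCompact, by simp⟩, fun x => ⟨⊤, trivial, ℤ, inferInstance, inferInstance, by
      rw [Category.comp_id]
      exact ⟨HomDesc.bcGrpIso _ _ (Limits.IsTerminal.hom_ext specULiftZIsTerminal _ _) (Red.diag (ULift.{u} ℤ) ℤ)⟩⟩⟩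
  obtain ⟨U, -, hU, hfl, hsu⟩ := exists_clopen_flat_surjective hT' hGm α
  have htop : U = ⊤ := top_le_iff.1 fun s _ => (hU s).2 (by
    have h := (flatSurj_iff_ne_one' hT α (Red.geomPt s)).2 (hα s)
    let σ : Spec (CommRingCat.of (AlgebraicClosure (S.residueField s))) ⟶ Spec (S.residueField s) :=
      Spec.map (CommRingCat.ofHom (algebraMap (S.residueField s) (AlgebraicClosure (S.residueField s))))
    haveI : Flat σ := (HasRingHomProperty.Spec_iff (P := @Flat)).2 (MonoFibre.flat_of_field _)
    haveI : Surjective σ := ⟨fun _ => ⟨IsLocalRing.closedPoint _,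
      @Subsingleton.elim _ (inferInstanceAs (Subsingleton (PrimeSpectrum (S.residueField s)))) _ _⟩⟩
    exact of_fpqc FS α σ rfl h)
  subst htop
  have h1 : FS ((Over.pullback (𝟙 S)).map α).left :=
    of_base FS α S.topIso.inv (t := (⊤ : S.Opens).ι) (by rw [← Scheme.topIso_hom, Iso.inv_hom_id]) ⟨hfl, hsu⟩
  haveI : IsIso (pullback.fst T.hom (𝟙 S)) := inferInstance
  have hw : pullback.fst T.hom (𝟙 S) ≫ α.left = ((Over.pullback (𝟙 S)).map α).left ≫ pullback.fst (Red.Gm S).hom (𝟙 S) :=
    by
    exact (isPullback_bc (𝟙 S) α).w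
  have h2 : FS (pullback.fst T.hom (𝟙 S) ≫ α.left) := by
    rw [hw, MorphismProperty.cancel_right_of_respectsIso FS]
    exact h1
  exact (MorphismProperty.cancel_left_of_respectsIso FS _ _).1 h2

end Groth.Agent.RankOneCellLib
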