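import Groth.Agent.GrpInfLib.Comm
import Groth.Agent.DSMapLib.Pts

/-!
# Tori are commutative
-/

set_option autoImplicit false
set_option backward.isDefEq.respectTransparency false
set_option backward.isDefEq.respectTransparency.types false
set_option linter.style.haveILetI false

universe u

open CategoryTheory Limits MonoidalCategory CartesianMonoidalCategory MonObj GrpObj AlgebraicGeometry

noncomputable section

namespace Groth.Agent.RankOneCellLib

open FixedSmooth

theorem pts_comm_of_isTorus {S : Scheme.{u}} {T : Over S} [GrpObj T] (hT : Red.IsTorus T)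
    {X : Over S} (a b : X ⟶ T) : a * b = b * a := by
  obtain ⟨S', f, hf, hf', -, hloc⟩ := hT
  haveI := hf
  haveI := hf'
  let p : pullback X.hom f ⟶ X.left := pullback.fst X.hom f
  haveI : Surjective p := MorphismProperty.pullback_fst _ _ inferInstance
  haveI : Flat p := MorphismProperty.pullback_fst _ _ inferInstance
  haveI : Epi p := Flat.epi_of_flat_of_surjective p
  have pieces : ∀ z : ↥(pullback X.hom f), ∃ V : (pullback X.hom f).Opens, z ∈ V ∧
      V.ι ≫ p ≫ (a * b).left = V.ι ≫ p ≫ (b * a).left := by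
    intro z
    obtain ⟨U, hU, r, ⟨e⟩⟩ := hloc ((pullback.snd X.hom f).base z)
    obtain ⟨V, hV, hzV, hVU⟩ := exists_isAffineOpen_mem_and_subset (X := pullback X.hom f) (x := z)
      (U := pullback.snd X.hom f ⁻¹ᵁ U) hU
    let u₀ : Spec Γ(pullback X.hom f, V) ⟶ S' := hV.fromSpec ≫ pullback.snd X.hom f
    have hu : Set.range u₀.base ⊆ Set.range U.ι.base := by
      rintro _ ⟨y, rfl⟩
      rw [Scheme.Opens.range_ι]
      exact hVU (hV.range_fromSpec.le ⟨y, rfl⟩)
    let q : Spec Γ(pullback X.hom f, V) ⟶ U.toScheme := IsOpenImmersion.lift U.ι u₀ hu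
    have hq : q ≫ U.ι = u₀ := IsOpenImmersion.lift_fac _ _ _
    let w : (Over.map (U.ι ≫ f)).obj (Over.mk q) ⟶ X := Over.homMk (hV.fromSpec ≫ p) (by
      show (hV.fromSpec ≫ p) ≫ X.hom = q ≫ U.ι ≫ f
      rw [← Category.assoc q, hq, Category.assoc, Category.assoc, pullback.condition])
    haveI : IsMonHom e.hom.hom.hom := e.hom.hom.isMonHom_hom
    haveI : IsIso e.hom.hom.hom := ((Grp.forget _).mapIso e).isIso_hom
    have hDS : ∀ c d : Over.mk q ⟶ Red.DS U.toScheme (Fin r → ℤ), c * d = d * c := by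
      intro c d
      obtain ⟨χ, rfl⟩ := (DSMapLib.dsPt (Fin r → ℤ) q).surjective c
      obtain ⟨χ', rfl⟩ := (DSMapLib.dsPt (Fin r → ℤ) q).surjective d
      exact ((DSMapLib.dsPt (Fin r → ℤ) q).map_mul χ χ').symm.trans
        ((congrArg _ (mul_comm χ χ')).trans ((DSMapLib.dsPt (Fin r → ℤ) q).map_mul χ' χ))
    have hcomm : ∀ c d : Over.mk q ⟶ Red.bc (U.ι ≫ f) T, c * d = d * c := by
      intro c d
      rw [← cancel_mono e.hom.hom.hom, MonObj.mul_comp, MonObj.mul_comp]
      exact hDS _ _
    have hw : w ≫ (a * b) = w ≫ (b * a) := by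
      apply (adjEquiv (U.ι ≫ f) T (Over.mk q)).injective
      rw [MonObj.comp_mul, MonObj.comp_mul, map_mul, map_mul]
      exact hcomm _ _
    refine ⟨V, hzV, ?_⟩
    rw [← cancel_epi hV.isoSpec.inv, IsAffineOpen.isoSpec_inv_ι_assoc, IsAffineOpen.isoSpec_inv_ι_assoc]
    have h := congrArg CommaMorphism.left hw
    simpa [w] using h
  choose V hzV hV using pieces
  apply Over.OverMorphism.ext
  rw [← cancel_epi p]
  let 𝒱 := (pullback X.hom f).openCoverOfIsOpenCover V
    (TopologicalSpace.IsOpenCover.mk (top_le_iff.1 fun z _ => TopologicalSpace.Opens.mem_iSup.2 ⟨z, hzV z⟩))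
  exact Scheme.Cover.hom_ext 𝒱 _ _ fun z => hV z

end Groth.Agent.RankOneCellLib
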