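import Groth.Agent.RankOneCellLib.Cover

/-!
# Geometric points and covers with prescribed units
-/

set_option autoImplicit false
set_option backward.isDefEq.respectTransparency false
set_option backward.isDefEq.respectTransparency.types false
set_option linter.style.haveILetI false

universe u

open CategoryTheory Limits MonoidalCategory CartesianMonoidalCategory MonObj GrpObj AlgebraicGeometry

noncomputable section

namespace Groth.Agent.RankOneCellLib

open Groth.Agent.RankOneRelLib

variable {S : Scheme.{u}}

/-- A point of an `S`-scheme gives one with values in an algebraically closed field. -/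
theorem exists_geomPt (X : Over S) (x : X.left) :
    ∃ (K : Type u) (_ : Field K) (_ : IsAlgClosed K) (P : Over S) (_ : K ≃+* Γ(P.left, ⊤)) (y : P ⟶ X),
      x ∈ Set.range y.left.base := by
  let K := AlgebraicClosure (X.left.residueField x)
  let yl : Spec (CommRingCat.of K) ⟶ X.left :=
    Spec.map (CommRingCat.ofHom (algebraMap (X.left.residueField x) K)) ≫ X.left.fromSpecResidueField x
  exact ⟨K, inferInstance, inferInstance, Over.mk (yl ≫ X.hom),
    (Scheme.ΓSpecIso (CommRingCat.of K)).commRingCatIsoToRingEquiv.symm, Over.homMk yl,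
    IsLocalRing.closedPoint K, Scheme.fromSpecResidueField_apply x _⟩

/-- A monic integer polynomial takes a unit value after a faithfully flat cover. -/
theorem exists_unitVal (X : Over S) {p : Polynomial (ULift.{u} ℤ)} (hp : p.Monic) :
    ∃ (X' : Over S) (f : X' ⟶ X), Epi f ∧ Surjective f.left ∧
      ∃ (e : ULift.{u} ℤ →+* Γ(X'.left, ⊤)) (m : Γ(X'.left, ⊤)), IsUnit (p.eval₂ e m) := by
  let B := Localization.Away p
  let jr : ULift.{u} ℤ →+* B := algebraMap (ULift.{u} ℤ) B
  haveI : Flat (Spec.map (CommRingCat.ofHom jr)) := by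
    rw [HasRingHomProperty.Spec_iff (P := @Flat), CommRingCat.hom_ofHom]
    show RingHom.Flat (algebraMap (ULift.{u} ℤ) B)
    rw [IsScalarTower.algebraMap_eq (ULift.{u} ℤ) (Polynomial (ULift.{u} ℤ)) B]
    exact RingHom.Flat.comp (RingHom.flat_algebraMap_iff.2 (Module.Flat.of_free))
      (RingHom.flat_algebraMap_iff.2 (IsLocalization.flat B (Submonoid.powers p)))
  haveI : Surjective (Spec.map (CommRingCat.ofHom jr)) := by
    refine ⟨fun q => ?_⟩
    let K := AlgebraicClosure q.asIdeal.ResidueField
    let φ₀ := algebraMap (ULift.{u} ℤ) K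
    obtain ⟨m, hm⟩ := Set.Finite.exists_notMem
      (s := {a : K | (p.map φ₀).IsRoot a}) (Polynomial.finite_setOfPred_isRoot (hp.map φ₀).ne_zero)
    have hu : IsUnit (Polynomial.eval₂RingHom φ₀ m p) := by
      refine isUnit_iff_ne_zero.2 fun h => hm ?_
      show (p.map φ₀).eval m = 0
      rw [Polynomial.eval_map]
      exact h
    let ψ : B →+* K := IsLocalization.Away.lift p hu
    refine ⟨(⟨RingHom.ker ψ, RingHom.ker_isPrime ψ⟩ : PrimeSpectrum B), PrimeSpectrum.ext ?_⟩
    show (RingHom.ker ψ).comap jr = q.asIdeal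
    have hc : ψ.comp jr = φ₀ := RingHom.ext fun z => by
      show ψ (algebraMap (ULift.{u} ℤ) B z) = φ₀ z
      rw [IsScalarTower.algebraMap_apply (ULift.{u} ℤ) (Polynomial (ULift.{u} ℤ)) B]
      show IsLocalization.Away.lift p hu _ = _
      rw [IsLocalization.Away.lift_eq]
      simp
    rw [RingHom.comap_ker, hc]
    show RingHom.ker (algebraMap (ULift.{u} ℤ) K) = _
    rw [IsScalarTower.algebraMap_eq (ULift.{u} ℤ) q.asIdeal.ResidueField K, RingHom.ker_comp_of_injective _
      (RingHom.injective _), Ideal.ker_algebraMap_residueField]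
  let t := IsTerminal.from specULiftZIsTerminal X.left
  haveI : Flat (pullback.fst t (Spec.map (CommRingCat.ofHom jr))) := MorphismProperty.pullback_fst _ _ inferInstance
  haveI hs : Surjective (pullback.fst t (Spec.map (CommRingCat.ofHom jr))) := MorphismProperty.pullback_fst _ _ inferInstance
  let f : Over.mk (pullback.fst t (Spec.map (CommRingCat.ofHom jr)) ≫ X.hom) ⟶ X :=
    Over.homMk (pullback.fst t (Spec.map (CommRingCat.ofHom jr)))
  haveI : Epi f.left := Flat.epi_of_flat_of_surjective (pullback.fst t (Spec.map (CommRingCat.ofHom jr)))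
  let r : B →+* Γ(pullback t (Spec.map (CommRingCat.ofHom jr)), ⊤) := GaPoints.ringMap (R := CommRingCat.of B) (pullback.snd t (Spec.map (CommRingCat.ofHom jr)))
  let ψ : Polynomial (ULift.{u} ℤ) →+* Γ(pullback t (Spec.map (CommRingCat.ofHom jr)), ⊤) :=
    r.comp (algebraMap (Polynomial (ULift.{u} ℤ)) B)
  refine ⟨_, f, (Over.forget S).epi_of_epi_map this, hs, ψ.comp Polynomial.C, ψ Polynomial.X, ?_⟩
  have : (Polynomial.eval₂RingHom (ψ.comp Polynomial.C) (ψ Polynomial.X)) = ψ :=
    Polynomial.ringHom_ext (fun a => by simp) (by simp)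
  show IsUnit (Polynomial.eval₂RingHom (ψ.comp Polynomial.C) (ψ Polynomial.X) p)
  rw [this]
  exact (IsLocalization.Away.algebraMap_isUnit (S := B) p).map r

end Groth.Agent.RankOneCellLib
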