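import Groth.Agent.RankOneCellLib.Cell
import Groth.Agent.RankOneCellLib.Comm
import Groth.Agent.RankOneCellLib.CharFibre
import Groth.Agent.RankOneCellLib.Pts

/-!
# Homomorphisms from the additive group which have a weight under a torus
-/

set_option autoImplicit false
set_option backward.isDefEq.respectTransparency false
set_option backward.isDefEq.respectTransparency.types false
set_option linter.style.haveILetI false

universe u

open CategoryTheory Limits MonoidalCategory CartesianMonoidalCategory MonObj GrpObj AlgebraicGeometry TopologicalSpace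

noncomputable section

namespace Groth.Agent.RankOneCellLib

open Groth.Agent.RankOneRelLib

variable {S : Scheme.{u}}

/-- Units are locally values of a faithfully flat character. -/
theorem exists_cover_char {Q : Over S} (β : Q ⟶ Red.Gm S) (hfl : Flat β.left) (hsu : Surjective β.left)
    {X : Over S} (v : Γ(X.left, ⊤)ˣ) :
    ∃ (X' : Over S) (f : X' ⟶ X) (τ : X' ⟶ Q), Epi f ∧ Surjective f.left ∧
      Red.gmFn (τ ≫ β) = f.left.appTop (v : Γ(X.left, ⊤)) := by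
  let w : X ⟶ Red.Gm S := GmPts.ptOfUnit v
  let X' : Over S := Over.mk (pullback.fst w.left β.left ≫ X.hom)
  let f : X' ⟶ X := Over.homMk (pullback.fst w.left β.left)
  have hsur : Surjective f.left := MorphismProperty.pullback_fst _ _ hsu
  haveI : Flat f.left := MorphismProperty.pullback_fst _ _ hfl
  haveI := hsur
  haveI : Epi f.left := Flat.epi_of_flat_of_surjective f.left
  let τ : X' ⟶ Q := Over.homMk (pullback.snd w.left β.left) (by
    show _ = pullback.fst w.left β.left ≫ X.hom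
    rw [← Over.w β, ← Over.w w, pullback.condition_assoc])
  refine ⟨X', f, τ, (Over.forget S).epi_of_epi_map this, hsur, ?_⟩
  have hτ : τ ≫ β = f ≫ w := Over.OverMorphism.ext pullback.condition.symm
  rw [hτ, GmPts.gmFn_comp, GmPts.gmFn_ptOfUnit]

/-- The point with a given coordinate over an affine test object. -/
abbrev pA {A : CommRingCat.{u}} {q : Spec A ⟶ S} (a : A) : Over.mk q ⟶ Red.Ga S :=
  gp (X := Over.mk q) ((Scheme.ΓSpecIso A).inv.hom a)

/-- The coordinate of a point over an affine test object. -/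
abbrev vA {A : CommRingCat.{u}} {q : Spec A ⟶ S} (x : Over.mk q ⟶ Red.Ga S) : A :=
  (Scheme.ΓSpecIso A).hom.hom (Red.gaFn x)

theorem vA_pA {A : CommRingCat.{u}} {q : Spec A ⟶ S} (a : A) : vA (pA (q := q) a) = a := by
  simp [vA, pA, gaFn_gp, ← CommRingCat.comp_apply]

theorem vA_injective {A : CommRingCat.{u}} {q : Spec A ⟶ S} :
    Function.Injective (vA (q := q) : (Over.mk q ⟶ Red.Ga S) → A) := fun x y h =>
  GaPoints.gaFn_injective ((Scheme.ΓSpecIso A).commRingCatIsoToRingEquiv.injective h)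

theorem vA_comp {A B : CommRingCat.{u}} {q : Spec A ⟶ S} {q' : Spec B ⟶ S} (φ : A ⟶ B)
    (g : Over.mk q' ⟶ Over.mk q) (hg : g.left = Spec.map φ) (x : Over.mk q ⟶ Red.Ga S) :
    vA (g ≫ x) = φ.hom (vA x) := by
  show (Scheme.ΓSpecIso B).hom.hom (Red.gaFn (g ≫ x)) = _
  rw [GaPoints.gaFn_comp, hg]
  exact congrArg (fun m => m.hom (Red.gaFn x)) (Scheme.ΓSpecIso_naturality φ)

section Poly

variable {A : CommRingCat.{u}} (q : Spec A ⟶ S)

/-- The affine line over an affine test object. -/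
abbrev line : Over S :=
  Over.mk (Spec.map (CommRingCat.ofHom (Polynomial.C : A →+* Polynomial A)) ≫ q)

/-- The value of an endomorphism of the additive group on the universal point. -/
abbrev polyOf (F : Red.Ga S ⟶ Red.Ga S) : Polynomial A :=
  vA (pA (q := Spec.map (CommRingCat.ofHom (Polynomial.C : A →+* Polynomial A)) ≫ q)
    (A := CommRingCat.of (Polynomial A)) Polynomial.X ≫ F)

/-- An endomorphism of the additive group is given by its polynomial. -/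
theorem vA_polyOf (F : Red.Ga S ⟶ Red.Ga S) {B : CommRingCat.{u}} {q' : Spec B ⟶ S} (φ : A ⟶ B)
    (hq : Spec.map φ ≫ q = q') (b : B) : vA (pA (q := q') b ≫ F) = (polyOf q F).eval₂ φ.hom b := by
  let ev : CommRingCat.of (Polynomial A) ⟶ B := CommRingCat.ofHom (Polynomial.eval₂RingHom φ.hom b)
  have hev : CommRingCat.ofHom (Polynomial.C : A →+* Polynomial A) ≫ ev = φ :=
    CommRingCat.hom_ext (RingHom.ext fun a => Polynomial.eval₂_C _ _)
  let g : Over.mk q' ⟶ line q := Over.homMk (Spec.map ev) (by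
    show Spec.map ev ≫ Spec.map _ ≫ q = q'
    rw [← Category.assoc, ← Spec.map_comp, hev, hq])
  have hx : g ≫ pA (A := CommRingCat.of (Polynomial A)) Polynomial.X = pA (q := q') b := by
    apply vA_injective
    rw [vA_comp ev g rfl, vA_pA, vA_pA]
    exact Polynomial.eval₂_X _ _
  rw [← hx, Category.assoc, vA_comp ev g rfl]
  rfl

theorem vA_polyOf_eval (F : Red.Ga S ⟶ Red.Ga S) (a : A) : vA (pA (q := q) a ≫ F) = (polyOf q F).eval a := by
  rw [vA_polyOf q F (𝟙 A) (by simp) a]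
  rfl

end Poly

variable {G T Q : Over S} [GrpObj G] [GrpObj T] [GrpObj Q] {i : T ⟶ G} [IsMonHom i] {j : Q ⟶ T} [IsMonHom j]
    {α : T ⟶ Red.Gm S} [IsMonHom α] {pp pm : Red.Ga S ⟶ G} [IsMonHom pp] [IsMonHom pm]

theorem conj_cell (hT : Red.IsTorus T)
    (hpp : ∀ (X : Over S) (t : X ⟶ T) (x : X ⟶ Red.Ga S), ∃ x' : X ⟶ Red.Ga S,
      x' ≫ pp = (t ≫ i) * (x ≫ pp) * (t ≫ i)⁻¹ ∧ Red.gaFn x' = Red.gmFn (t ≫ α) * Red.gaFn x)
    (hpm : ∀ (X : Over S) (t : X ⟶ T) (y : X ⟶ Red.Ga S), ∃ y' : X ⟶ Red.Ga S,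
      y' ≫ pm = (t ≫ i) * (y ≫ pm) * (t ≫ i)⁻¹ ∧ Red.gaFn y' * Red.gmFn (t ≫ α) = Red.gaFn y)
    {X : Over S} (s : X ⟶ T) (a : X ⟶ Red.Ga S) (t : X ⟶ T) (b : X ⟶ Red.Ga S) :
    ∃ a' b' : X ⟶ Red.Ga S, Red.gaFn a' * Red.gmFn (s ≫ α) = Red.gaFn a ∧
      Red.gaFn b' = Red.gmFn (s ≫ α) * Red.gaFn b ∧
      (s ≫ i) * ((a ≫ pm) * (t ≫ i) * (b ≫ pp)) * (s ≫ i)⁻¹ = (a' ≫ pm) * (t ≫ i) * (b' ≫ pp) := by
  obtain ⟨a', ha', ha''⟩ := hpm X s a
  obtain ⟨b', hb', hb''⟩ := hpp X s b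
  refine ⟨a', b', ha'', hb'', ?_⟩
  have hc : (s ≫ i) * (t ≫ i) = (t ≫ i) * (s ≫ i) := by
    rw [← MonObj.mul_comp, ← MonObj.mul_comp, pts_comm_of_isTorus hT]
  calc (s ≫ i) * ((a ≫ pm) * (t ≫ i) * (b ≫ pp)) * (s ≫ i)⁻¹
      = (s ≫ i) * (a ≫ pm) * ((s ≫ i)⁻¹ * ((s ≫ i) * (t ≫ i))) * (b ≫ pp) * (s ≫ i)⁻¹ := by group
    _ = ((s ≫ i) * (a ≫ pm) * (s ≫ i)⁻¹) * (t ≫ i) * ((s ≫ i) * (b ≫ pp) * (s ≫ i)⁻¹) := by rw [hc]; group
    _ = _ := by rw [← ha', ← hb']

theorem pow_comp {A B X : Over S} [GrpObj A] [GrpObj B] (h : A ⟶ B) [IsMonHom h] (t : X ⟶ A) (n : ℕ) :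
    (t ^ n) ≫ h = (t ≫ h) ^ n := by
  induction n with
  | zero => rw [pow_zero, pow_zero, MonObj.one_comp]
  | succ n ih => rw [pow_succ, pow_succ, MonObj.mul_comp, ih]

theorem gmFn_pow {X : Over S} (t : X ⟶ Red.Gm S) (n : ℕ) : Red.gmFn (t ^ n) = Red.gmFn t ^ n := by
  induction n with
  | zero => rw [pow_zero, pow_zero, GmPts.gmFn_one]
  | succ n ih => rw [pow_succ, pow_succ, GmPts.gmFn_mul, ih]

variable [hΩ : IsOpenImmersion (cellMap i pp pm).left]
    (hT : Red.IsTorus T)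
    (hpp : ∀ (X : Over S) (t : X ⟶ T) (x : X ⟶ Red.Ga S), ∃ x' : X ⟶ Red.Ga S,
      x' ≫ pp = (t ≫ i) * (x ≫ pp) * (t ≫ i)⁻¹ ∧ Red.gaFn x' = Red.gmFn (t ≫ α) * Red.gaFn x)
    (hpm : ∀ (X : Over S) (t : X ⟶ T) (y : X ⟶ Red.Ga S), ∃ y' : X ⟶ Red.Ga S,
      y' ≫ pm = (t ≫ i) * (y ≫ pm) * (t ≫ i)⁻¹ ∧ Red.gaFn y' * Red.gmFn (t ≫ α) = Red.gaFn y)
    (hfl : Flat (j ≫ α).left) (hsu : Surjective (j ≫ α).left) (n : ℕ) (p : Red.Ga S ⟶ G) [IsMonHom p]
    (hp : ∀ (X : Over S) (t : X ⟶ Q) (x x' : X ⟶ Red.Ga S), Red.gaFn x' = Red.gmFn (t ≫ j ≫ α) * Red.gaFn x →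
      x' ≫ p = ((t ≫ j ≫ i) ^ n) * (x ≫ p) * ((t ≫ j ≫ i) ^ n)⁻¹)

include hfl hsu hp hT hpp hpm in
theorem inCell_of_root {X : Over S} (x : X ⟶ Red.Ga S) : InCell i pp pm (x ≫ p) := by
  rintro _ ⟨z, rfl⟩
  let K := AlgebraicClosure (X.left.residueField z)
  let yl : Spec (CommRingCat.of K) ⟶ X.left :=
    Spec.map (CommRingCat.ofHom (algebraMap (X.left.residueField z) K)) ≫ X.left.fromSpecResidueField z
  let q : Spec (CommRingCat.of K) ⟶ S := yl ≫ X.hom
  let y : Over.mk q ⟶ X := Over.homMk yl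
  have hz : y.left.base (IsLocalRing.closedPoint K) = z := Scheme.fromSpecResidueField_apply z _
  suffices hall : ∀ a : K, InCell i pp pm (pA (A := CommRingCat.of K) (q := q) a ≫ p) by
    have hin : InCell i pp pm (y ≫ x ≫ p) := by
      rw [← Category.assoc, ← vA_injective (vA_pA (vA (y ≫ x)) : vA (pA (vA (y ≫ x))) = vA (y ≫ x))]
      exact hall _
    exact hin ⟨IsLocalRing.closedPoint K, congrArg (x ≫ p).left.base hz⟩
  have hzero : ∀ {X : Over S}, InCell i pp pm ((1 : X ⟶ Red.Ga S) ≫ p) := fun {X} => by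
    have h := inCell_cell i pp pm (1 : X ⟶ Red.Ga S) 1 1
    rwa [MonObj.one_comp, MonObj.one_comp, MonObj.one_comp, _root_.one_mul, _root_.one_mul,
      ← MonObj.one_comp p] at h
  let q₁ : Spec (CommRingCat.of (Polynomial K)) ⟶ S :=
    Spec.map (CommRingCat.ofHom (Polynomial.C : K →+* Polynomial K)) ≫ q
  let x₁ : Over.mk q₁ ⟶ Red.Ga S := pA (A := CommRingCat.of (Polynomial K)) Polynomial.X
  let W : (Spec (CommRingCat.of (Polynomial K))).Opens := (x₁ ≫ p).left ⁻¹ᵁ (cellMap i pp pm).left.opensRange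
  have hev : ∀ c : K, ∃ g : Over.mk q ⟶ Over.mk q₁,
      g.left = Spec.map (CommRingCat.ofHom (Polynomial.evalRingHom c)) ∧ g ≫ x₁ = pA (A := CommRingCat.of K) c := by
    intro c
    let φ : CommRingCat.of (Polynomial K) ⟶ CommRingCat.of K := CommRingCat.ofHom (Polynomial.evalRingHom c)
    have e : CommRingCat.ofHom (Polynomial.C : K →+* Polynomial K) ≫ φ = 𝟙 _ :=
      CommRingCat.hom_ext (RingHom.ext fun a => Polynomial.eval_C)
    let g : Over.mk q ⟶ Over.mk q₁ := Over.homMk (Spec.map φ) (by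
      show Spec.map φ ≫ Spec.map _ ≫ q = q
      rw [← Category.assoc, ← Spec.map_comp, e, Spec.map_id, Category.id_comp])
    refine ⟨g, rfl, vA_injective ?_⟩
    rw [vA_comp φ g rfl, vA_pA, vA_pA]
    exact Polynomial.eval_X
  obtain ⟨g₀, hg₀, hg₀'⟩ := hev 0
  have h0 : g₀.left.base (IsLocalRing.closedPoint K) ∈ W := by
    have hx : pA (A := CommRingCat.of K) (q := q) 0 = 1 :=
      GaPoints.gaFn_injective (by rw [gaFn_gp, GaPoints.gaFn_one, map_zero])
    have h := hzero (X := Over.mk q) ⟨IsLocalRing.closedPoint K, rfl⟩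
    rw [← hx, ← hg₀', Category.assoc] at h
    exact h
  obtain ⟨_, ⟨f, rfl⟩, hf0, hfW⟩ := PrimeSpectrum.isTopologicalBasis_basic_opens.exists_subset_of_mem_open h0 W.2
  have hf : f ≠ 0 := by
    rintro rfl
    simp at hf0
  obtain ⟨c, hc⟩ := Set.Finite.exists_notMem (s := insert 0 {a : K | f.IsRoot a})
    ((Polynomial.finite_setOfPred_isRoot hf).insert 0)
  simp only [Set.mem_insert_iff, Set.mem_setOf_eq, not_or, Polynomial.IsRoot.def] at hc
  obtain ⟨g, hg, hg'⟩ := hev c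
  have hcin : InCell i pp pm (pA (A := CommRingCat.of K) (q := q) c ≫ p) := by
    rintro _ ⟨w, rfl⟩
    rw [← hg', Category.assoc]
    refine hfW ?_
    show g.left.base w ∈ PrimeSpectrum.basicOpen f
    rw [show g.left.base w = (Spec.map (CommRingCat.ofHom (Polynomial.evalRingHom c))).base w from
      congrArg (fun m : Spec (CommRingCat.of K) ⟶ Spec (CommRingCat.of (Polynomial K)) => m.base w) hg]
    intro hmem
    exact (w : PrimeSpectrum K).isPrime.ne_top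
      ((Ideal.eq_top_of_isUnit_mem _ hmem (isUnit_iff_ne_zero.2 hc.2)))
  intro a
  by_cases ha : a = 0
  · have hx : pA (A := CommRingCat.of K) (q := q) a = 1 :=
      GaPoints.gaFn_injective (by rw [gaFn_gp, GaPoints.gaFn_one, ha, map_zero])
    rw [hx]
    exact hzero
  let v : Γ((Over.mk q).left, ⊤)ˣ :=
    Units.map (Scheme.ΓSpecIso (CommRingCat.of K)).inv.hom.toMonoidHom (Units.mk0 (a / c) (div_ne_zero ha hc.1))
  obtain ⟨X', f', τ, -, hf's, hτ⟩ := exists_cover_char (j ≫ α) hfl hsu v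
  refine inCell_of_cover i pp pm f' ?_
  have hsc : Red.gaFn (f' ≫ pA (A := CommRingCat.of K) (q := q) a) =
      Red.gmFn (τ ≫ j ≫ α) * Red.gaFn (f' ≫ pA (A := CommRingCat.of K) (q := q) c) := by
    rw [hτ, GaPoints.gaFn_comp, GaPoints.gaFn_comp, gaFn_gp, gaFn_gp, ← map_mul]
    congr 1
    show _ = (Scheme.ΓSpecIso (CommRingCat.of K)).inv.hom (a / c) * _
    rw [← map_mul, div_mul_cancel₀ _ hc.1]
  rw [← Category.assoc, hp X' τ _ _ hsc, ← Category.assoc, ← pow_comp i]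
  obtain ⟨a', t', b', he⟩ := exists_of_inCell i pp pm (inCell_comp i pp pm f' hcin)
  rw [Category.assoc, ← he]
  obtain ⟨a'', b'', -, -, hconj⟩ := conj_cell hT hpp hpm ((τ ≫ j) ^ n) a' t' b'
  rw [hconj]
  exact inCell_cell i pp pm _ _ _

/-- The algebra behind the equivariance: an endomorphism of the additive group is read off from units. -/
theorem polyOf_units {A : CommRingCat.{u}} (q : Spec A ⟶ S) (F : Red.Ga S ⟶ Red.Ga S) :
    ∃ (q' : Spec (CommRingCat.of (Localization.Away (Polynomial.X : Polynomial A))) ⟶ S)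
      (v : Γ((Over.mk q').left, ⊤)ˣ) (x : Over.mk q' ⟶ Red.Ga S),
      (Scheme.ΓSpecIso _).hom.hom (v : Γ((Over.mk q').left, ⊤)) =
        algebraMap (Polynomial A) (Localization.Away (Polynomial.X : Polynomial A)) Polynomial.X ∧
      vA (gp ((v : Γ((Over.mk q').left, ⊤)) * Red.gaFn x) ≫ F) =
        algebraMap (Polynomial A) _ (polyOf q F) ∧
      vA (x ≫ F) = algebraMap (Polynomial A) _ (Polynomial.C ((polyOf q F).eval 1)) := by
  let L := Localization.Away (Polynomial.X : Polynomial A)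
  let loc : Polynomial A →+* L := algebraMap (Polynomial A) L
  let φ : A ⟶ CommRingCat.of L := CommRingCat.ofHom (loc.comp Polynomial.C)
  let q' : Spec (CommRingCat.of L) ⟶ S := Spec.map φ ≫ q
  obtain ⟨w, hw⟩ : IsUnit (loc Polynomial.X) := IsLocalization.Away.algebraMap_isUnit _
  let v : Γ((Over.mk q').left, ⊤)ˣ := Units.map (Scheme.ΓSpecIso (CommRingCat.of L)).inv.hom.toMonoidHom w
  have hv : (Scheme.ΓSpecIso _).hom.hom (v : Γ((Over.mk q').left, ⊤)) = loc Polynomial.X := by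
    rw [← hw]
    exact (Scheme.ΓSpecIso (CommRingCat.of L)).inv_hom_id_apply _
  refine ⟨q', v, pA (A := CommRingCat.of L) 1, hv, ?_, ?_⟩
  · have e : gp ((v : Γ((Over.mk q').left, ⊤)) * Red.gaFn (pA (A := CommRingCat.of L) (q := q') 1)) =
        pA (A := CommRingCat.of L) (q := q') (loc Polynomial.X) := by
      apply vA_injective
      rw [vA_pA, vA, gaFn_gp, map_mul, hv, gaFn_gp]
      erw [(Scheme.ΓSpecIso (CommRingCat.of L)).inv_hom_id_apply]
      exact _root_.mul_one _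
    rw [e, vA_polyOf q F φ rfl]
    show Polynomial.eval₂ (loc.comp Polynomial.C) (loc Polynomial.X) (polyOf q F) = loc (polyOf q F)
    rw [← Polynomial.hom_eval₂, Polynomial.eval₂_C_X]
  · rw [vA_polyOf q F φ rfl]
    show Polynomial.eval₂ (loc.comp Polynomial.C) 1 (polyOf q F) = loc (Polynomial.C ((polyOf q F).eval 1))
    rw [← (loc.comp Polynomial.C).map_one, Polynomial.eval₂_at_apply]
    rfl

theorem algebraMap_away_X_injective (A : Type u) [CommRing A] :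
    Function.Injective (algebraMap (Polynomial A) (Localization.Away (Polynomial.X : Polynomial A))) :=
  IsLocalization.injective _ (Submonoid.powers_le.2 Polynomial.monic_X.mem_nonZeroDivisors)

include hfl hsu hp hT hpp hpm in
/-- A homomorphism from the additive group of weight `n` is `x ↦ p₊(ν xⁿ)`. -/
theorem existsUnique_root :
    ∃! ν : 𝟙_ (Over S) ⟶ Red.Ga S, ∀ (X : Over S) (x y : X ⟶ Red.Ga S),
      Red.gaFn y = Red.gaFn (toUnit X ≫ ν) * Red.gaFn x ^ n → x ≫ p = y ≫ pp := by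
  obtain ⟨Y, Tt, Φ, hd⟩ := exists_of_inCell i pp pm
    (inCell_of_root hT hpp hpm hfl hsu n p hp (𝟙 (Red.Ga S)))
  rw [Category.id_comp] at hd
  have hx : ∀ {X : Over S} (x : X ⟶ Red.Ga S),
      x ≫ p = ((x ≫ Y) ≫ pm) * ((x ≫ Tt) ≫ i) * ((x ≫ Φ) ≫ pp) := fun x => by
    rw [← hd, MonObj.comp_mul, MonObj.comp_mul]
    simp only [Category.assoc]
  have hone : ∀ X : Over S, ((1 : X ⟶ Red.Ga S) ≫ Y = 1) ∧ ((1 : X ⟶ Red.Ga S) ≫ Φ = 1) := fun X => by
    have h := (hx (1 : X ⟶ Red.Ga S)).symm.trans (MonObj.one_comp p)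
    have h' : (1 : X ⟶ G) = ((1 : X ⟶ Red.Ga S) ≫ pm) * ((1 : X ⟶ T) ≫ i) * ((1 : X ⟶ Red.Ga S) ≫ pp) := by
      rw [MonObj.one_comp, MonObj.one_comp, MonObj.one_comp, _root_.one_mul, _root_.one_mul]
    obtain ⟨h1, -, h3⟩ := cell_inj i pp pm (h.trans h')
    exact ⟨h1, h3⟩
  have heq : ∀ {X : Over S} (v : Γ(X.left, ⊤)ˣ) (x : X ⟶ Red.Ga S),
      gp ((v : Γ(X.left, ⊤)) * Red.gaFn x) ≫ Tt = x ≫ Tt ∧
      Red.gaFn (gp ((v : Γ(X.left, ⊤)) * Red.gaFn x) ≫ Y) * (v : Γ(X.left, ⊤)) ^ n = Red.gaFn (x ≫ Y) ∧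
      Red.gaFn (gp ((v : Γ(X.left, ⊤)) * Red.gaFn x) ≫ Φ) = (v : Γ(X.left, ⊤)) ^ n * Red.gaFn (x ≫ Φ) := by
    intro X v x
    obtain ⟨X', f, τ, hf, -, hτ⟩ := exists_cover_char (j ≫ α) hfl hsu v
    haveI := hf
    set x' := gp ((v : Γ(X.left, ⊤)) * Red.gaFn x) with hx'
    have hsc : Red.gaFn (f ≫ x') = Red.gmFn (τ ≫ j ≫ α) * Red.gaFn (f ≫ x) := by
      rw [hτ, GaPoints.gaFn_comp, GaPoints.gaFn_comp, hx', gaFn_gp, map_mul]
    have h := hp X' τ _ _ hsc
    rw [← Category.assoc τ j i, ← pow_comp i, hx (f ≫ x'), hx (f ≫ x)] at h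
    obtain ⟨a', b', ha', hb', hconj⟩ :=
      conj_cell hT hpp hpm ((τ ≫ j) ^ n) ((f ≫ x) ≫ Y) ((f ≫ x) ≫ Tt) ((f ≫ x) ≫ Φ)
    have hw : Red.gmFn (((τ ≫ j) ^ n) ≫ α) = f.left.appTop ((v : Γ(X.left, ⊤)) ^ n) := by
      rw [pow_comp α, gmFn_pow, Category.assoc, hτ, map_pow]
    obtain ⟨h1, h2, h3⟩ := cell_inj i pp pm (h.trans hconj)
    rw [← h1, hw] at ha'
    rw [← h3, hw] at hb'
    refine ⟨(cancel_epi f).1 (by simpa only [Category.assoc] using h2), ?_, ?_⟩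
    · have e : gp (Red.gaFn (x' ≫ Y) * (v : Γ(X.left, ⊤)) ^ n) = x ≫ Y := (cancel_epi f).1 (by
        apply GaPoints.gaFn_injective
        rw [GaPoints.gaFn_comp, gaFn_gp, map_mul, ← GaPoints.gaFn_comp, ← Category.assoc, ← Category.assoc f x Y]
        exact ha')
      rw [← e, gaFn_gp]
    · have e : gp ((v : Γ(X.left, ⊤)) ^ n * Red.gaFn (x ≫ Φ)) = x' ≫ Φ := (cancel_epi f).1 (by
        apply GaPoints.gaFn_injective
        rw [GaPoints.gaFn_comp, gaFn_gp, map_mul, ← GaPoints.gaFn_comp, ← Category.assoc, ← Category.assoc f x' Φ]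
        exact hb'.symm)
      rw [← e, gaFn_gp]
  have hzero : ∀ {A : CommRingCat.{u}} (q : Spec A ⟶ S), pA (A := A) (q := q) 0 = 1 := fun {A} q =>
    GaPoints.gaFn_injective (by rw [gaFn_gp, GaPoints.gaFn_one, map_zero])
  have hY : Y = 1 := FixedSmooth.hom_ext_affine _ _ fun A q w => by
    obtain ⟨q', v, x, hv, h1, h2⟩ := polyOf_units q Y
    have h := congrArg (Scheme.ΓSpecIso _).hom.hom (heq v x).2.1
    rw [map_mul, map_pow, hv] at h
    change vA _ * _ = vA _ at h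
    rw [h1, h2, ← map_pow, ← map_mul] at h
    have hP := algebraMap_away_X_injective A h
    have h0 : (polyOf q Y).eval 0 = 0 := by
      rw [← vA_polyOf_eval, hzero, (hone _).1, vA, GaPoints.gaFn_one, map_zero]
    have hc : (polyOf q Y).eval 1 = 0 := by
      have := congrArg (Polynomial.eval 0) hP
      simpa [h0] using this.symm
    rw [hc, map_zero] at hP
    have hP' : polyOf q Y = 0 := (Polynomial.monic_X_pow n).mem_nonZeroDivisors.2 _ hP
    rw [MonObj.comp_one, ← vA_injective (vA_pA (vA w))]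
    apply vA_injective
    rw [vA_polyOf_eval, hP', Polynomial.eval_zero, vA, GaPoints.gaFn_one, map_zero]
  let ν : 𝟙_ (Over S) ⟶ Red.Ga S := gp 1 ≫ Φ
  have hΦ : Φ = gp (Red.gaFn (toUnit (Red.Ga S) ≫ ν) * Red.gaFn (𝟙 (Red.Ga S)) ^ n) :=
    FixedSmooth.hom_ext_affine _ _ fun A q w => by
      obtain ⟨q', v, x, hv, h1, h2⟩ := polyOf_units q Φ
      have h := congrArg (Scheme.ΓSpecIso _).hom.hom (heq v x).2.2
      rw [map_mul, map_pow, hv] at h
      change vA _ = _ * vA _ at h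
      rw [h1, h2, ← map_pow, ← map_mul] at h
      have hP := algebraMap_away_X_injective A h
      rw [← vA_injective (vA_pA (vA w))]
      apply vA_injective
      rw [vA_polyOf_eval, hP, comp_gp, Polynomial.eval_mul, Polynomial.eval_pow, Polynomial.eval_X,
        Polynomial.eval_C]
      simp only [vA, gaFn_gp, map_mul, map_pow]
      rw [← GaPoints.gaFn_comp, ← GaPoints.gaFn_comp, Category.comp_id, ← Category.assoc, comp_toUnit]
      change _ = vA _ * vA _ ^ n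
      rw [vA_pA, mul_comm]
      congr 1
      rw [← vA_polyOf_eval]
      congr 1
      show pA 1 ≫ Φ = toUnit _ ≫ gp 1 ≫ Φ
      rw [← Category.assoc, comp_gp, map_one]
      show gp (X := Over.mk q) ((Scheme.ΓSpecIso A).inv.hom 1) ≫ Φ = _
      rw [map_one]
  have hΦ' : ∀ {X : Over S} (x : X ⟶ Red.Ga S),
      Red.gaFn (x ≫ Φ) = Red.gaFn (toUnit X ≫ ν) * Red.gaFn x ^ n := fun {X} x => by
    rw [hΦ, comp_gp, gaFn_gp, map_mul, map_pow, ← GaPoints.gaFn_comp, ← GaPoints.gaFn_comp, Category.comp_id,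
      ← Category.assoc, comp_toUnit]
  have hx' : ∀ {X : Over S} (x : X ⟶ Red.Ga S), x ≫ p = ((x ≫ Tt) ≫ i) * ((x ≫ Φ) ≫ pp) := fun x => by
    rw [hx, hY, MonObj.comp_one, MonObj.one_comp, _root_.one_mul]
  have hmul : ∀ {X : Over S} (x x₀ : X ⟶ Red.Ga S), (x * x₀) ≫ Tt = (x ≫ Tt) * (x₀ ≫ Tt) := fun {X} x x₀ => by
    obtain ⟨φ', hφ', -⟩ := hpp X (x₀ ≫ Tt)⁻¹ (x ≫ Φ)
    have h := MonObj.mul_comp x x₀ p
    rw [hx', hx', hx'] at h
    have e : ((x ≫ Tt) ≫ i) * ((x ≫ Φ) ≫ pp) * (((x₀ ≫ Tt) ≫ i) * ((x₀ ≫ Φ) ≫ pp)) =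
        ((1 : X ⟶ Red.Ga S) ≫ pm) * (((x ≫ Tt) * (x₀ ≫ Tt)) ≫ i) * ((φ' * (x₀ ≫ Φ)) ≫ pp) := by
      rw [MonObj.one_comp, _root_.one_mul, MonObj.mul_comp, MonObj.mul_comp, hφ', GrpObj.inv_comp]
      group
    rw [e, ← _root_.one_mul (((x * x₀) ≫ Tt) ≫ i), ← MonObj.one_comp pm] at h
    exact (cell_inj i pp pm h).2.1
  have hTt : ∀ {X : Over S} (x : X ⟶ Red.Ga S), x ≫ Tt = 1 := fun {X} x => by
    obtain ⟨X', f, hf, -, ε, m, hm⟩ := exists_unitVal X
      (p := (Polynomial.X : Polynomial (ULift.{u} ℤ)) * (Polynomial.X - Polynomial.C 1))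
      (Polynomial.monic_X.mul (Polynomial.monic_X_sub_C 1))
    simp only [Polynomial.eval₂_mul, Polynomial.eval₂_X, Polynomial.eval₂_sub, Polynomial.eval₂_C, map_one, Polynomial.eval₂_one,
      IsUnit.mul_iff] at hm
    obtain ⟨⟨v, rfl⟩, ⟨w, hw⟩⟩ := hm
    haveI := hf
    apply (cancel_epi f).1
    rw [MonObj.comp_one, ← Category.assoc]
    let x₀ : X' ⟶ Red.Ga S := gp ((w⁻¹ : _ˣ).1 * Red.gaFn (f ≫ x))
    have e : (f ≫ x) * x₀ = gp ((v : Γ(X'.left, ⊤)) * Red.gaFn x₀) := by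
      apply GaPoints.gaFn_injective
      rw [GaPoints.gaFn_mul, gaFn_gp, gaFn_gp]
      linear_combination (-Red.gaFn (f ≫ x)) * (Units.mul_inv w) + (-((w⁻¹ : _ˣ).1 * Red.gaFn (f ≫ x))) * (hw.symm)
    have h := hmul (f ≫ x) x₀
    rw [e, (heq v x₀).1] at h
    exact mul_eq_right.1 h.symm
  have hfin : ∀ {X : Over S} (x : X ⟶ Red.Ga S), x ≫ p = (x ≫ Φ) ≫ pp := fun x => by
    rw [hx', hTt, MonObj.one_comp, _root_.one_mul]
  refine ⟨ν, fun X x y hy => ?_, fun ν' hν' => ?_⟩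
  · rw [hfin]
    congr 1
    exact GaPoints.gaFn_injective ((hΦ' x).trans hy.symm)
  · have h := hν' (𝟙_ (Over S)) (gp 1) ν' (by
      rw [gaFn_gp, one_pow, _root_.mul_one, toUnit_unique (toUnit (𝟙_ (Over S))) (𝟙 _), Category.id_comp])
    rw [hfin] at h
    have e : ∀ b : 𝟙_ (Over S) ⟶ Red.Ga S, b ≫ pp =
        ((1 : 𝟙_ (Over S) ⟶ Red.Ga S) ≫ pm) * ((1 : 𝟙_ (Over S) ⟶ T) ≫ i) * (b ≫ pp) := fun b => by
      rw [MonObj.one_comp, MonObj.one_comp, _root_.one_mul, _root_.one_mul]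
    rw [e, e ν'] at h
    exact ((cell_inj i pp pm h).2.2).symm

end Groth.Agent.RankOneCellLib
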