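import Groth.Agent.RankOneCellLib.CharFibre
import Groth.Agent.TrivAct.HomGa
import Groth.Agent.FiniteKer.Main

/-!
# The additive group over a field
-/

set_option autoImplicit false
set_option backward.isDefEq.respectTransparency false
set_option backward.isDefEq.respectTransparency.types false
set_option linter.style.haveILetI false

universe u

open CategoryTheory Limits MonoidalCategory CartesianMonoidalCategory MonObj GrpObj AlgebraicGeometry
open scoped TensorProduct

noncomputable section

namespace Groth.Agent.RankOneCellLib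

theorem smooth_Ga (S : Scheme.{u}) : Smooth (Red.Ga S).hom := by
  haveI : Smooth (Red.GaZ.{u}).hom := by
    show Smooth (Spec.map (CommRingCat.ofHom (algebraMap (ULift.{u} ℤ) (SymmetricAlgebra (ULift.{u} ℤ) (ULift.{u} ℤ)))))
    rw [HasRingHomProperty.Spec_iff (P := @Smooth), CommRingCat.hom_ofHom, RingHom.smooth_algebraMap]
    haveI : Algebra.Smooth (ULift.{u} ℤ) (MvPolynomial Unit (ULift.{u} ℤ)) := ⟨inferInstance, inferInstance⟩
    exact Algebra.Smooth.of_equiv (R := ULift.{u} ℤ) (SymmetricAlgebra.equivMvPolynomial (Module.Basis.singleton Unit (ULift.{u} ℤ))).symm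
  exact MorphismProperty.pullback_snd _ _ inferInstance

variable {S : Scheme.{u}} {K : Type u} [Field K] (j : Spec (CommRingCat.of K) ⟶ S)

/-- The fibre of the additive group is the additive group. -/
def bcGaIso : Grp.mk (Red.bc j (Red.Ga S)) ≅ Grp.mk (Red.Ga (Spec (CommRingCat.of K))) :=
  HomDesc.bcGrpIso j _ (specULiftZIsTerminal.hom_ext _ _) Red.GaZ

theorem smooth_bcGa : Smooth (Red.bc j (Red.Ga S)).hom := by
  haveI := smooth_Ga S
  exact MorphismProperty.pullback_snd _ _ inferInstance

theorem connectedSpace_bcGa : ConnectedSpace ↥(Red.bc j (Red.Ga S)).left := by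
  obtain ⟨A, _, _, e, -, ⟨i⟩⟩ := FiniteKer.exists_ga_model K
  haveI : IsDomain A := e.symm.toRingEquiv.toMulEquiv.isDomain (Polynomial K)
  haveI : ConnectedSpace ↥(Spec (CommRingCat.of A)) :=
    @IrreducibleSpace.connectedSpace (PrimeSpectrum A) _ PrimeSpectrum.irreducibleSpace
  let f : Spec (CommRingCat.of A) ≅ (Red.bc j (Red.Ga S)).left :=
    (Over.forget _).mapIso ((Grp.forget _).mapIso (i ≪≫ (bcGaIso j).symm))
  exact f.hom.homeomorph.surjective.connectedSpace f.hom.homeomorph.continuous

theorem hasNoSubtorus_bcGa : Red.HasNoSubtorus K (Red.bc j (Red.Ga S)) := by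
  intro T _ a ha _ hT
  haveI := ha
  let e : Red.bc j (Red.Ga S) ⟶ Red.Ga (Spec (CommRingCat.of K)) := (bcGaIso j).hom.hom.hom
  haveI : IsMonHom e := (bcGaIso j).hom.hom.isMonHom_hom
  haveI : IsMonHom (a ≫ e) := inferInstance
  haveI : IsIso e := ((Grp.forget _).mapIso (bcGaIso j)).isIso_hom
  have h := TrivAct.hom_ga_trivial (TrivAct.hasSplitCovers_of_isMultTypeLoc
    (WeilClosedLib.IsMultTypeLoc.of_isMultTypeFT (SplitHom.isMultTypeFT_of_isTorus hT))) (a ≫ e)
  have hid : 𝟙 T = 1 := by
    rw [← cancel_mono a, ← cancel_mono e, Category.id_comp, h, MonObj.one_comp, MonObj.one_comp]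
  refine ⟨(η : _ ⟶ T).left, ?_, Over.w (η : _ ⟶ T)⟩
  have h1 := congrArg CommaMorphism.left hid
  rw [Hom.one_def] at h1
  exact h1.symm

end Groth.Agent.RankOneCellLib
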