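import Groth.Agent.RankOneRelLib.Scheme

/-!
# The big cell of a rank one system
-/

set_option autoImplicit false
set_option backward.isDefEq.respectTransparency false
set_option backward.isDefEq.respectTransparency.types false
set_option linter.style.haveILetI false

universe u

open CategoryTheory Limits MonoidalCategory CartesianMonoidalCategory MonObj GrpObj AlgebraicGeometry

noncomputable section

namespace Groth.Agent.RankOneCellLib

open Groth.Agent.RankOneRelLib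

variable {S : Scheme.{u}} {G T : Over S} [GrpObj G] [GrpObj T]

/-- The source of the cell map. -/
abbrev Cl (T : Over S) : Over S := (Red.Ga S ⊗ T) ⊗ Red.Ga S

/-- The cell map. -/
abbrev cellMap (i : T ⟶ G) (pp pm : Red.Ga S ⟶ G) : Cl T ⟶ G :=
  ((pm ⊗ₘ i) ⊗ₘ pp) ≫ (μ[G] ▷ G) ≫ μ[G]

variable (i : T ⟶ G) (pp pm : Red.Ga S ⟶ G)

omit [GrpObj T] in
theorem lift_cellMap {X : Over S} (a : X ⟶ Red.Ga S) (t : X ⟶ T) (b : X ⟶ Red.Ga S) :
    lift (lift a t) b ≫ cellMap i pp pm = (a ≫ pm) * (t ≫ i) * (b ≫ pp) := by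
  simp only [cellMap, lift_map_assoc, lift_whiskerRight_assoc, lift_map, Hom.mul_def]

omit [GrpObj T] in
theorem cellMap_eq {X : Over S} (ω : X ⟶ Cl T) :
    ω ≫ cellMap i pp pm = (ω ≫ fst _ _ ≫ fst _ _ ≫ pm) * (ω ≫ fst _ _ ≫ snd _ _ ≫ i) * (ω ≫ snd _ _ ≫ pp) := by
  have h := lift_cellMap i pp pm (ω ≫ fst _ _ ≫ fst _ _) (ω ≫ fst _ _ ≫ snd _ _) (ω ≫ snd _ _)
  simp only [Category.assoc] at h
  rw [← h]
  congr 1
  ext <;> simp

/-- All the topological values of a point lie in the cell. -/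
def InCell {X : Over S} (g : X ⟶ G) : Prop :=
  Set.range g.left.base ⊆ Set.range (cellMap i pp pm).left.base

omit [GrpObj T] in
theorem inCell_comp {X X' : Over S} (f : X' ⟶ X) {g : X ⟶ G} (hg : InCell i pp pm g) :
    InCell i pp pm (f ≫ g) := by
  rintro _ ⟨x, rfl⟩
  exact hg ⟨f.left.base x, rfl⟩

omit [GrpObj T] in
theorem inCell_of_cover {X X' : Over S} (f : X' ⟶ X) [Surjective f.left] {g : X ⟶ G}
    (hg : InCell i pp pm (f ≫ g)) : InCell i pp pm g := by
  rintro _ ⟨x, rfl⟩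
  obtain ⟨y, rfl⟩ := f.left.surjective x
  exact hg ⟨y, rfl⟩

omit [GrpObj T] in
theorem inCell_cellMap {X : Over S} (ω : X ⟶ Cl T) : InCell i pp pm (ω ≫ cellMap i pp pm) := by
  rintro _ ⟨x, rfl⟩
  exact ⟨ω.left.base x, rfl⟩

omit [GrpObj T] in
theorem inCell_cell {X : Over S} (a : X ⟶ Red.Ga S) (t : X ⟶ T) (b : X ⟶ Red.Ga S) :
    InCell i pp pm ((a ≫ pm) * (t ≫ i) * (b ≫ pp)) := by
  rw [← lift_cellMap]
  exact inCell_cellMap i pp pm _

variable [hΩ : IsOpenImmersion (cellMap i pp pm).left]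

omit [GrpObj T] in
theorem mono_cellMap : Mono (cellMap i pp pm) :=
  (Over.forget S).mono_of_mono_map (inferInstanceAs (Mono (cellMap i pp pm).left))

omit [GrpObj T] in
/-- A point with values in the cell is a product in exactly one way. -/
theorem exists_of_inCell {X : Over S} {g : X ⟶ G} (hg : InCell i pp pm g) :
    ∃ (a : X ⟶ Red.Ga S) (t : X ⟶ T) (b : X ⟶ Red.Ga S), (a ≫ pm) * (t ≫ i) * (b ≫ pp) = g := by
  obtain ⟨ω, hω⟩ : ∃ ω : X ⟶ Cl T, ω ≫ cellMap i pp pm = g :=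
    ⟨Over.homMk (IsOpenImmersion.lift (cellMap i pp pm).left g.left hg)
      (by rw [← Over.w (cellMap i pp pm), IsOpenImmersion.lift_fac_assoc, Over.w g]),
     Over.OverMorphism.ext (IsOpenImmersion.lift_fac (cellMap i pp pm).left g.left hg)⟩
  refine ⟨ω ≫ fst _ _ ≫ fst _ _, ω ≫ fst _ _ ≫ snd _ _, ω ≫ snd _ _, ?_⟩
  have h := (cellMap_eq i pp pm ω).symm.trans hω
  simpa only [Category.assoc] using h

omit [GrpObj T] in
theorem cell_inj {X : Over S} {a a' : X ⟶ Red.Ga S} {t t' : X ⟶ T} {b b' : X ⟶ Red.Ga S}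
    (h : (a ≫ pm) * (t ≫ i) * (b ≫ pp) = (a' ≫ pm) * (t' ≫ i) * (b' ≫ pp)) :
    a = a' ∧ t = t' ∧ b = b' := by
  rw [← lift_cellMap, ← lift_cellMap] at h
  haveI := mono_cellMap i pp pm
  have h' := (cancel_mono (cellMap i pp pm)).1 h
  have h1 := congrArg (fun q => q ≫ fst _ _) h'
  have h2 := congrArg (fun q => q ≫ snd _ _) h'
  simp only [lift_fst, lift_snd] at h1 h2
  have h3 := congrArg (fun q => q ≫ fst _ _) h1
  have h4 := congrArg (fun q => q ≫ snd _ _) h1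
  simp only [lift_fst, lift_snd] at h3 h4
  exact ⟨h3, h4, h2⟩

end Groth.Agent.RankOneCellLib
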