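import Groth.Agent.RankOneCellLib.Quot
import Groth.Agent.RankOneCellLib.Pts
import Groth.Agent.RankOneCellLib.Comm

/-!
# The centralizer of a multiple of the coroot
-/

set_option autoImplicit false
set_option backward.isDefEq.respectTransparency false
set_option backward.isDefEq.respectTransparency.types false
set_option linter.style.haveILetI false

universe u v w

open CategoryTheory Limits MonoidalCategory CartesianMonoidalCategory MonObj GrpObj AlgebraicGeometry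

noncomputable section

namespace Groth.Agent.RankOneCellLib

open Groth.Agent.RankOneRelLib

/-- An element of the shape `P b · t · M e · P c` commuting with enough coroot values is in the torus. -/
theorem sys_eq_torus {R : Type u} [CommRing R] {H : Type v} [Group H] {T : Type w} [Group T] (σ : Sys R H T)
    (hT : ∀ x y : T, x * y = y * x)
    (hinj : ∀ (a a' : R) (t t' : T) (b b' : R), σ.M a * σ.I t * σ.P b = σ.M a' * σ.I t' * σ.P b' →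
      a = a' ∧ t = t' ∧ b = b')
    (n : ℤ) (hpick : ∀ k : R, ∃ ζ : Rˣ, IsUnit (1 - ((ζ ^ n * ζ ^ n)⁻¹ : Rˣ).1) ∧
      IsUnit (1 + k * (1 - ((ζ ^ n * ζ ^ n)⁻¹ : Rˣ).1)) ∧
      (k ≠ 0 → (1 + k * (1 - ((ζ ^ n * ζ ^ n)⁻¹ : Rˣ).1)) * (1 + k * (1 - ((ζ ^ n * ζ ^ n)⁻¹ : Rˣ).1)) ≠ 1))
    (b : R) (t : T) (e c : R)
    (hcomm : ∀ ζ : Rˣ, σ.P b * σ.I t * σ.M e * σ.P c * σ.I (σ.av ζ ^ n) =
      σ.I (σ.av ζ ^ n) * (σ.P b * σ.I t * σ.M e * σ.P c)) :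
    σ.P b * σ.I t * σ.M e * σ.P c = σ.I t := by
  obtain ⟨ζ, hr, hu, hne⟩ := hpick ((σ.al t)⁻¹.1 * b * e)
  set C := σ.av ζ ^ n
  set q : Rˣ := σ.al C
  have hq : q = ζ ^ n * ζ ^ n := by
    show σ.al (σ.av ζ ^ n) = _
    rw [map_zpow, σ.al_av, mul_zpow]
  rw [← hq] at hr hu hne
  set a := σ.al t
  have h := hcomm ζ
  have e1 : σ.I C * (σ.P b * σ.I t * σ.M e * σ.P c) =
      σ.P (q * b) * σ.I t * σ.M (q⁻¹.1 * e) * σ.P (q * c) * σ.I C := by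
    have hCt : σ.I C * σ.I t = σ.I t * σ.I C := by rw [← map_mul, ← map_mul, hT]
    calc σ.I C * (σ.P b * σ.I t * σ.M e * σ.P c)
        = (σ.I C * σ.P b) * σ.I t * σ.M e * σ.P c := by group
      _ = σ.P (q * b) * (σ.I C * σ.I t) * σ.M e * σ.P c := by rw [σ.I_P]; simp only [_root_.mul_assoc]; rfl
      _ = σ.P (q * b) * σ.I t * (σ.I C * σ.M e) * σ.P c := by rw [hCt]; group
      _ = σ.P (q * b) * σ.I t * σ.M (q⁻¹.1 * e) * (σ.I C * σ.P c) := by rw [σ.I_M]; simp only [_root_.mul_assoc]; rfl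
      _ = _ := by rw [σ.I_P]; simp only [_root_.mul_assoc]; rfl
  have h' : σ.P b * σ.I t * σ.M e * σ.P c = σ.P (q * b) * σ.I t * σ.M (q⁻¹.1 * e) * σ.P (q * c) :=
    mul_right_cancel (h.trans e1)
  have h'' : σ.P (a⁻¹.1 * (q * b) - a⁻¹.1 * b) * σ.M (q⁻¹.1 * e) = σ.M e * σ.I 1 * σ.P (c - q * c) := by
    rw [σ.P_I, σ.P_I, _root_.mul_assoc, _root_.mul_assoc, _root_.mul_assoc, _root_.mul_assoc, mul_left_cancel_iff] at h'
    rw [sub_eq_neg_add, σ.P_add, σ.P_neg, map_one, _root_.mul_one, sub_eq_add_neg, σ.P_add, σ.P_neg]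
    calc (σ.P (a⁻¹.1 * b))⁻¹ * σ.P (a⁻¹.1 * (q * b)) * σ.M (q⁻¹.1 * e)
        = (σ.P (a⁻¹.1 * b))⁻¹ * (σ.P (a⁻¹.1 * (q * b)) * (σ.M (q⁻¹.1 * e) * σ.P (q * c))) * (σ.P (q * c))⁻¹ := by group
      _ = _ := by
          rw [← h']
          exact (congrArg (· * _) (inv_mul_cancel_left _ _)).trans (_root_.mul_assoc _ _ _)
  have hk : (1 : R) + (a⁻¹.1 * (q * b) - a⁻¹.1 * b) * (q⁻¹.1 * e) =
      1 + a⁻¹.1 * b * e * (1 - q⁻¹.1) := by
    linear_combination (a⁻¹.1 * b * e) * Units.mul_inv q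
  obtain ⟨U, hU⟩ := hu
  rw [σ.rule _ _ U (hU.trans hk.symm)] at h''
  obtain ⟨hM, hav, hP⟩ := hinj _ _ _ _ _ _ h''
  have hsq : (U : R) * U = 1 := by
    have := congrArg (fun x : T => (σ.al x : R)) hav
    simpa [σ.al_av] using this
  have hk0 : a⁻¹.1 * b * e = 0 := by
    by_contra hne'
    exact hne hne' (by rw [← hU]; exact hsq)
  have hU1 : U = 1 := Units.ext (by rw [hU, hk0, zero_mul, add_zero, Units.val_one])
  rw [hU1, inv_one, Units.val_one, _root_.mul_one]  at hM hP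
  have he : e = 0 := hr.mul_left_cancel (by linear_combination -hM)
  subst he
  have hr' : IsUnit ((q : R) * (1 - q⁻¹.1)) := q.isUnit.mul hr
  have hc : c = -(a⁻¹.1 * b) := hr'.mul_left_cancel (by
    linear_combination hP - (c + a⁻¹.1 * b) * Units.mul_inv q)
  rw [σ.M_zero, _root_.mul_one, σ.P_I, _root_.mul_assoc, ← σ.P_add, hc, add_neg_cancel, σ.P_zero, _root_.mul_one]

theorem exists_zpow_pick {K : Type u} [Field K] [IsAlgClosed K] {n : ℤ} (hn : n ≠ 0) (k : K) :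
    ∃ ζ : Kˣ, IsUnit (1 - ((ζ ^ n * ζ ^ n)⁻¹ : Kˣ).1) ∧
      IsUnit (1 + k * (1 - ((ζ ^ n * ζ ^ n)⁻¹ : Kˣ).1)) ∧
      (k ≠ 0 → (1 + k * (1 - ((ζ ^ n * ζ ^ n)⁻¹ : Kˣ).1)) * (1 + k * (1 - ((ζ ^ n * ζ ^ n)⁻¹ : Kˣ).1)) ≠ 1) := by
  obtain ⟨r, hr0, hr1, hru, hrs⟩ : ∃ r : K, r ≠ 0 ∧ r ≠ 1 ∧ 1 + k * (1 - r) ≠ 0 ∧
      (k ≠ 0 → (1 + k * (1 - r)) * (1 + k * (1 - r)) ≠ 1) := by
    by_cases hk : k = 0
    · obtain ⟨r, hr⟩ := Set.Finite.exists_notMem (s := ({0, 1} : Set K)) (Set.toFinite _)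
      simp only [Set.mem_insert_iff, Set.mem_singleton_iff, not_or] at hr
      exact ⟨r, hr.1, hr.2, by simp [hk], fun h => absurd hk h⟩
    · obtain ⟨u, hu⟩ := Set.Finite.exists_notMem (s := ({0, 1, -1, 1 + k} : Set K)) (Set.toFinite _)
      simp only [Set.mem_insert_iff, Set.mem_singleton_iff, not_or] at hu
      refine ⟨1 - (u - 1) / k, fun h => hu.2.2.2 ?_, fun h => hu.2.1 ?_, ?_, fun _ => ?_⟩
      · field_simp at h
        linear_combination -h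
      · field_simp at h
        linear_combination -h
      · rw [sub_sub_cancel, mul_div_cancel₀ _ hk, add_sub_cancel]
        exact hu.1
      · rw [sub_sub_cancel, mul_div_cancel₀ _ hk, add_sub_cancel]
        intro h
        rcases mul_self_eq_one_iff.1 h with h | h
        · exact hu.2.1 h
        · exact hu.2.2.1 h
  obtain ⟨y, hy⟩ := IsAlgClosed.exists_pow_nat_eq r (n := 2 * n.natAbs) (by omega)
  have hy0 : y ≠ 0 := fun h => hr0 (by rw [← hy, h, zero_pow (by omega)])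
  obtain ⟨ζ, hζ⟩ : ∃ ζ : Kˣ, ((ζ ^ n * ζ ^ n)⁻¹ : Kˣ).1 = r := by
    rcases Int.natAbs_eq n with h | h
    · refine ⟨(Units.mk0 y hy0)⁻¹, ?_⟩
      rw [h, zpow_natCast, inv_pow, ← _root_.mul_inv, _root_.inv_inv, ← pow_add, Units.val_pow_eq_pow_val, Units.val_mk0, ← two_mul, hy]
    · refine ⟨Units.mk0 y hy0, ?_⟩
      rw [h, zpow_neg, zpow_natCast, ← _root_.mul_inv, _root_.inv_inv, ← pow_add, Units.val_pow_eq_pow_val, Units.val_mk0, ← two_mul, hy]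
  refine ⟨ζ, ?_⟩
  rw [hζ]
  exact ⟨isUnit_iff_ne_zero.2 (sub_ne_zero.2 (Ne.symm hr1)), isUnit_iff_ne_zero.2 hru, hrs⟩

theorem exists_zpow_pick' {K R : Type u} [Field K] [IsAlgClosed K] [CommRing R] (φ : K ≃+* R) {n : ℤ}
    (hn : n ≠ 0) (k : R) :
    ∃ ζ : Rˣ, IsUnit (1 - ((ζ ^ n * ζ ^ n)⁻¹ : Rˣ).1) ∧
      IsUnit (1 + k * (1 - ((ζ ^ n * ζ ^ n)⁻¹ : Rˣ).1)) ∧
      (k ≠ 0 → (1 + k * (1 - ((ζ ^ n * ζ ^ n)⁻¹ : Rˣ).1)) * (1 + k * (1 - ((ζ ^ n * ζ ^ n)⁻¹ : Rˣ).1)) ≠ 1) := by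
  obtain ⟨k, rfl⟩ := φ.surjective k
  obtain ⟨ζ, h1, h2, h3⟩ := exists_zpow_pick hn k
  refine ⟨Units.map φ.toMonoidHom ζ, ?_⟩
  have e : (((Units.map φ.toMonoidHom ζ) ^ n * (Units.map φ.toMonoidHom ζ) ^ n)⁻¹ : Rˣ).1 =
      φ ((ζ ^ n * ζ ^ n)⁻¹ : Kˣ).1 := by
    rw [← map_zpow, ← map_mul, ← map_inv]
    rfl
  rw [e, ← map_one φ, ← map_sub, ← map_mul, ← map_add, ← map_mul]
  exact ⟨h1.map φ, h2.map φ, fun hk => φ.injective.ne (h3 fun h => hk (by rw [h, map_zero]))⟩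

variable {S : Scheme.{u}} {G T : Over S} [GrpObj G] [GrpObj T] {i : T ⟶ G} [IsMonHom i]
    {α : T ⟶ Red.Gm S} [IsMonHom α] {pp pm : Red.Ga S ⟶ G} [IsMonHom pp] [IsMonHom pm]
    {av : Red.Gm S ⟶ T} [IsMonHom av] [hΩ : IsOpenImmersion (cellMap i pp pm).left]
    (hG : Red.IsReductive G) (hT : Red.IsTorus T)
    (hpp : ∀ (X : Over S) (t : X ⟶ T) (x : X ⟶ Red.Ga S), ∃ x' : X ⟶ Red.Ga S,
      x' ≫ pp = (t ≫ i) * (x ≫ pp) * (t ≫ i)⁻¹ ∧ Red.gaFn x' = Red.gmFn (t ≫ α) * Red.gaFn x)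
    (hpm : ∀ (X : Over S) (t : X ⟶ T) (y : X ⟶ Red.Ga S), ∃ y' : X ⟶ Red.Ga S,
      y' ≫ pm = (t ≫ i) * (y ≫ pm) * (t ≫ i)⁻¹ ∧ Red.gaFn y' * Red.gmFn (t ≫ α) = Red.gaFn y)
    (h2 : av ≫ α = (𝟙 (Red.Gm S)) ^ 2)
    (hF : ∀ (X : Over S) (x y : X ⟶ Red.Ga S), IsUnit (1 + Red.gaFn x * Red.gaFn y) →
      ∃ (x' y' : X ⟶ Red.Ga S) (z : X ⟶ Red.Gm S), Red.gmFn z = 1 + Red.gaFn x * Red.gaFn y ∧
        Red.gaFn x' * Red.gmFn z = Red.gaFn x ∧ Red.gaFn y' * Red.gmFn z = Red.gaFn y ∧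
        (x ≫ pp) * (y ≫ pm) = (y' ≫ pm) * (z ≫ av ≫ i) * (x' ≫ pp))

include hG hT hpp hpm h2 hF in
/-- A point commuting with a nonzero multiple of the coroot is a point of the torus. -/
theorem exists_torus_of_commute {n : ℤ} (hn : n ≠ 0) {X : Over S} (g : X ⟶ G)
    (hg : ∀ (X' : Over S) (y : X' ⟶ X) (z : X' ⟶ Red.Gm S),
      (y ≫ g) * (((z ≫ av) ^ n) ≫ i) = (((z ≫ av) ^ n) ≫ i) * (y ≫ g)) :
    ∃ t : X ⟶ T, t ≫ i = g := by
  have hin : InCell i pp pm g := by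
    rintro _ ⟨x, rfl⟩
    obtain ⟨X', f, hf, hfs, b, t, e, c, hbte⟩ := exists_cover_shape (pp := pp) (α := α) hG hpm g
    obtain ⟨x', rfl⟩ := f.left.surjective x
    obtain ⟨K, _, _, P, φ, y, y₀, rfl⟩ := exists_geomPt X' x'
    let σ := sys hpp hpm h2 hF P
    have key : y ≫ f ≫ g = (y ≫ t) ≫ i := by
      have hd : y ≫ f ≫ g = σ.P (Red.gaFn (y ≫ b)) * σ.I (y ≫ t) * σ.M (Red.gaFn (y ≫ e)) *
          σ.P (Red.gaFn (y ≫ c)) := by
        rw [sys_P hpp hpm h2 hF, sys_P hpp hpm h2 hF, sys_M hpp hpm h2 hF, sys_I hpp hpm h2 hF, hbte]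
        simp only [MonObj.comp_mul, Category.assoc]
      rw [hd]
      refine sys_eq_torus σ (fun p q => pts_comm_of_isTorus hT p q) (fun a a' p p' d d' h => ?_) n
        (exists_zpow_pick' φ hn) _ _ _ _ fun ζ => ?_
      · obtain ⟨h1, h2', h3⟩ := cell_inj i pp pm h
        exact ⟨by simpa [gaFn_gp] using congrArg Red.gaFn h1, h2', by simpa [gaFn_gp] using congrArg Red.gaFn h3⟩
      · rw [← hd]
        have := hg P (y ≫ f) (GmPts.ptOfUnit ζ)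
        rwa [Category.assoc] at this
    have h1 : InCell i pp pm (y ≫ f ≫ g) := by
      rw [key]
      have := inCell_cell i pp pm (1 : P ⟶ Red.Ga S) (y ≫ t) 1
      rwa [MonObj.one_comp, MonObj.one_comp, _root_.one_mul, _root_.mul_one] at this
    exact h1 ⟨y₀, rfl⟩
  obtain ⟨a, t, b, rfl⟩ := exists_of_inCell i pp pm hin
  obtain ⟨X', f, hf, -, ε, m, hm⟩ := exists_unitVal X
    (p := (Polynomial.X : Polynomial (ULift.{u} ℤ)) * (Polynomial.X ^ (2 * n.natAbs) - 1))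
    (Polynomial.monic_X.mul (Polynomial.monic_X_pow_sub_C 1 (by omega)))
  simp only [Polynomial.eval₂_mul, Polynomial.eval₂_X, Polynomial.eval₂_sub, Polynomial.eval₂_pow,
    Polynomial.eval₂_one, IsUnit.mul_iff] at hm
  obtain ⟨⟨ζ, rfl⟩, hm2⟩ := hm
  let σ := sys hpp hpm h2 hF X'
  let C := σ.av ζ ^ n
  set q := σ.al C with hqdef
  have hq : q = ζ ^ n * ζ ^ n := by
    show σ.al (σ.av ζ ^ n) = _
    rw [map_zpow, σ.al_av, mul_zpow]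
  have hq1 : IsUnit ((q : Γ(X'.left, ⊤)) - 1) ∧ IsUnit ((q⁻¹ : _ˣ).1 - 1) := by
    have hz : IsUnit ((((ζ ^ n.natAbs * ζ ^ n.natAbs : _ˣ)) : Γ(X'.left, ⊤)) - 1) := by
      rwa [← pow_add, ← two_mul, Units.val_pow_eq_pow_val]
    have flip : ∀ w : Γ(X'.left, ⊤)ˣ, IsUnit ((w : Γ(X'.left, ⊤)) - 1) → IsUnit ((w⁻¹ : _ˣ).1 - 1) := fun w hw => by
      rw [show (w⁻¹ : _ˣ).1 - 1 = -((w⁻¹ : _ˣ).1) * ((w : Γ(X'.left, ⊤)) - 1) by
        linear_combination Units.inv_mul w]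
      exact ((w⁻¹).isUnit.neg).mul hw
    rw [hq]
    rcases Int.natAbs_eq n with h | h
    · rw [h, zpow_natCast]
      exact ⟨hz, flip _ hz⟩
    · rw [h, zpow_neg, zpow_natCast, ← _root_.mul_inv]
      exact ⟨flip _ hz, by rw [_root_.inv_inv]; exact hz⟩
  have hfg : f ≫ ((a ≫ pm) * (t ≫ i) * (b ≫ pp)) =
      σ.M (Red.gaFn (f ≫ a)) * σ.I (f ≫ t) * σ.P (Red.gaFn (f ≫ b)) := by
    rw [sys_P hpp hpm h2 hF, sys_M hpp hpm h2 hF, sys_I hpp hpm h2 hF]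
    simp only [MonObj.comp_mul, Category.assoc]
  have h := hg X' f (GmPts.ptOfUnit ζ)
  rw [hfg] at h
  change _ * σ.I C = σ.I C * _ at h
  have hCt : σ.I C * σ.I (f ≫ t) = σ.I (f ≫ t) * σ.I C := by
    rw [← map_mul, ← map_mul, pts_comm_of_isTorus hT]
  have e1 : σ.I C * (σ.M (Red.gaFn (f ≫ a)) * σ.I (f ≫ t) * σ.P (Red.gaFn (f ≫ b))) =
      σ.M (q⁻¹.1 * Red.gaFn (f ≫ a)) * σ.I (f ≫ t) * σ.P (q * Red.gaFn (f ≫ b)) * σ.I C := by
    calc σ.I C * (σ.M (Red.gaFn (f ≫ a)) * σ.I (f ≫ t) * σ.P (Red.gaFn (f ≫ b)))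
        = (σ.I C * σ.M (Red.gaFn (f ≫ a))) * σ.I (f ≫ t) * σ.P (Red.gaFn (f ≫ b)) := by group
      _ = σ.M (q⁻¹.1 * Red.gaFn (f ≫ a)) * (σ.I C * σ.I (f ≫ t)) * σ.P (Red.gaFn (f ≫ b)) := by
          rw [σ.I_M]; simp only [_root_.mul_assoc]; rfl
      _ = σ.M (q⁻¹.1 * Red.gaFn (f ≫ a)) * σ.I (f ≫ t) * (σ.I C * σ.P (Red.gaFn (f ≫ b))) := by rw [hCt]; group
      _ = _ := by rw [σ.I_P]; simp only [_root_.mul_assoc]; rfl
  obtain ⟨h1, -, h3⟩ := cell_inj i pp pm (mul_right_cancel (h.trans e1))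
  have h1' := congrArg Red.gaFn h1
  have h3' := congrArg Red.gaFn h3
  rw [gaFn_gp, gaFn_gp] at h1' h3'
  have ha : a = 1 := by
    refine (cancel_epi f).1 (GaPoints.gaFn_injective (hq1.2.mul_left_cancel ?_))
    rw [MonObj.comp_one, GaPoints.gaFn_one]
    linear_combination -h1'
  have hb : b = 1 := by
    refine (cancel_epi f).1 (GaPoints.gaFn_injective (hq1.1.mul_left_cancel ?_))
    rw [MonObj.comp_one, GaPoints.gaFn_one]
    linear_combination -h3'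
  exact ⟨t, by rw [ha, hb, MonObj.one_comp, MonObj.one_comp, _root_.one_mul, _root_.mul_one]⟩

end Groth.Agent.RankOneCellLib
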