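import Groth.Agent.RankOneCellLib.Cell
import Groth.Agent.MonoFibre.Homogeneous

/-!
# Every point is locally a quotient of two points of the big cell
-/

set_option autoImplicit false
set_option backward.isDefEq.respectTransparency false
set_option backward.isDefEq.respectTransparency.types false
set_option linter.style.haveILetI false

universe u

open CategoryTheory Limits MonoidalCategory CartesianMonoidalCategory MonObj GrpObj AlgebraicGeometry TopologicalSpace

noncomputable section

namespace Groth.Agent.RankOneCellLib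

variable {S : Scheme.{u}} {G T : Over S} [GrpObj G] [GrpObj T]

theorem connectedSpace_fiber (hG : Red.IsReductive G) (s : S) : ConnectedSpace ↥(G.hom.fiber s) := by
  let σ : Spec (CommRingCat.of (AlgebraicClosure (S.residueField s))) ⟶ Spec (S.residueField s) :=
    Spec.map (CommRingCat.ofHom (algebraMap (S.residueField s) (AlgebraicClosure (S.residueField s))))
  haveI : ConnectedSpace ↥(pullback G.hom (σ ≫ S.fromSpecResidueField s)) := (hG.2.2 s).2.2.1
  haveI : Surjective σ := ⟨fun _ => ⟨default, Subsingleton.elim (α := PrimeSpectrum (S.residueField s)) _ _⟩⟩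
  haveI : Surjective (pullback.fst (pullback.snd G.hom (S.fromSpecResidueField s)) σ) :=
    MorphismProperty.pullback_fst _ _ inferInstance
  let m := (pullbackLeftPullbackSndIso G.hom (S.fromSpecResidueField s) σ).inv ≫
    pullback.fst (pullback.snd G.hom (S.fromSpecResidueField s)) σ
  haveI : Surjective m := inferInstance
  exact m.surjective.connectedSpace m.continuous

theorem universallyOpen_hom (hG : Red.IsReductive G) : UniversallyOpen G.hom := by
  haveI := hG.2.1
  infer_instance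

/-- The fibre product with a geometric point is irreducible. -/
theorem irreducibleSpace_tensor (hG : Red.IsReductive G) {K : Type u} [Field K]
    (j : Spec (CommRingCat.of K) ⟶ S) : IrreducibleSpace ↥(G ⊗ Over.mk j).left := by
  haveI := universallyOpen_hom hG
  exact MonoFibre.irreducibleSpace_bc (connectedSpace_fiber hG) j

variable (i : T ⟶ G) [IsMonHom i] (pp pm : Red.Ga S ⟶ G) [IsMonHom pp] [IsMonHom pm]

theorem inCell_one (X : Over S) : InCell i pp pm (1 : X ⟶ G) := by
  have h := inCell_cell i pp pm (1 : X ⟶ Red.Ga S) 1 1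
  rwa [MonObj.one_comp, MonObj.one_comp, MonObj.one_comp, _root_.one_mul, _root_.one_mul] at h

variable [hΩ : IsOpenImmersion (cellMap i pp pm).left]

/-- Fppf-locally every point is a quotient of two points of the cell. -/
theorem exists_cover (hG : Red.IsReductive G) {X : Over S} (g : X ⟶ G) :
    ∃ (X' : Over S) (f : X' ⟶ X), Epi f ∧ Surjective f.left ∧
      ∃ ω₁ ω₂ : X' ⟶ G, InCell i pp pm ω₁ ∧ InCell i pp pm ω₂ ∧ f ≫ g = ω₁⁻¹ * ω₂ := by
  let U : G.left.Opens := (cellMap i pp pm).left.opensRange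
  let h₁ : G ⊗ X ⟶ G := fst G X
  let h₂ : G ⊗ X ⟶ G := fst G X * (snd G X ≫ g)
  let W : (G ⊗ X).left.Opens := h₁.left ⁻¹ᵁ U ⊓ h₂.left ⁻¹ᵁ U
  let X' : Over S := Over.mk (W.ι ≫ (G ⊗ X).hom)
  let ιW : X' ⟶ G ⊗ X := Over.homMk W.ι
  let f : X' ⟶ X := ιW ≫ snd G X
  have hf : f.left = W.ι ≫ pullback.snd G.hom X.hom := rfl
  haveI := hG.2.1
  haveI : Flat f.left := by rw [hf]; infer_instance
  haveI hs : Surjective f.left := by
    refine ⟨fun x => ?_⟩
    let K := AlgebraicClosure (X.left.residueField x)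
    let yl : Spec (CommRingCat.of K) ⟶ X.left :=
      Spec.map (CommRingCat.ofHom (algebraMap (X.left.residueField x) K)) ≫ X.left.fromSpecResidueField x
    let P : Over S := Over.mk (yl ≫ X.hom)
    let y : P ⟶ X := Over.homMk yl
    haveI : IrreducibleSpace ↥(G ⊗ P).left := irreducibleSpace_tensor hG (yl ≫ X.hom)
    let a₁ : G ⊗ P ⟶ G := fst G P
    let a₂ : G ⊗ P ⟶ G := fst G P * (snd G P ≫ y ≫ g)
    have hne : ∀ (a : G ⊗ P ⟶ G) (e : P ⟶ G ⊗ P), e ≫ a = 1 → ((a.left ⁻¹ᵁ U : (G ⊗ P).left.Opens) : Set ↥(G ⊗ P).left).Nonempty := by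
      intro a e he
      let p : ↥P.left := IsLocalRing.closedPoint K
      refine ⟨e.left.base p, ?_⟩
      have h := inCell_one i pp pm P ⟨p, rfl⟩
      rw [← he] at h
      exact h
    obtain ⟨q, hq₁, hq₂⟩ := nonempty_preirreducible_inter (a₁.left ⁻¹ᵁ U).2 (a₂.left ⁻¹ᵁ U).2
      (hne a₁ (lift 1 (𝟙 P)) (lift_fst _ _))
      (hne a₂ (lift (y ≫ g)⁻¹ (𝟙 P)) (by
        rw [MonObj.comp_mul, lift_fst, lift_snd_assoc, Category.id_comp, inv_mul_cancel]))
    let F : G ⊗ P ⟶ G ⊗ X := G ◁ y
    have hF₁ : F ≫ h₁ = a₁ := by simp [F, h₁, a₁]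
    have hF₂ : F ≫ h₂ = a₂ := by simp [F, h₂, a₂, MonObj.comp_mul]
    have hqW : F.left.base q ∈ W := by
      rw [← hF₁] at hq₁
      rw [← hF₂] at hq₂
      exact ⟨hq₁, hq₂⟩
    refine ⟨⟨F.left.base q, hqW⟩, ?_⟩
    show (F ≫ snd G X).left.base q = x
    rw [whiskerLeft_snd]
    exact Scheme.fromSpecResidueField_apply x _
  haveI : Epi f.left := Flat.epi_of_flat_of_surjective f.left
  refine ⟨X', f, (Over.forget S).epi_of_epi_map this, hs, ιW ≫ h₁, ιW ≫ h₂, ?_, ?_, ?_⟩
  · rintro _ ⟨w, rfl⟩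
    exact w.2.1
  · rintro _ ⟨w, rfl⟩
    exact w.2.2
  · simp only [h₁, h₂, f, MonObj.comp_mul, Category.assoc, inv_mul_cancel_left]

end Groth.Agent.RankOneCellLib
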