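import Groth.Agent.RankOneCellLib.Cover
import Groth.Agent.GrpInfLib.Comm

/-!
# Torus points with a nontrivial value of the root, fppf-locally
-/

set_option autoImplicit false
set_option backward.isDefEq.respectTransparency false
set_option backward.isDefEq.respectTransparency.types false
set_option linter.style.haveILetI false

universe u

open CategoryTheory Limits MonoidalCategory CartesianMonoidalCategory MonObj GrpObj AlgebraicGeometry TopologicalSpace

noncomputable section

namespace Groth.Agent.RankOneCellLib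

open FixedSmooth

theorem isUnit_of_forall_mem_basicOpen {X : Scheme.{u}} (f : Γ(X, ⊤)) (h : ∀ x : X, x ∈ X.basicOpen f) :
    IsUnit f :=
  X.toRingedSpace.isUnit_of_isUnit_germ ⊤ f fun x _ => (X.toRingedSpace.mem_basicOpen f x trivial).1 (h x)

variable {S : Scheme.{u}} {G T : Over S} [GrpObj G] [GrpObj T] (i : T ⟶ G) [IsMonHom i]
    (pp pm : Red.Ga S ⟶ G) [IsMonHom pp] [IsMonHom pm] [hΩ : IsOpenImmersion (cellMap i pp pm).left]

include i pp pm hΩ in
theorem smooth_cl (hG : Red.IsReductive G) : Smooth (Cl T).hom := by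
  haveI := hG.2.1
  rw [← Over.w (cellMap i pp pm)]
  infer_instance

include i pp pm hΩ in
/-- A nontrivial character takes a value `u` with `u - 1` invertible after a faithfully flat cover. -/
theorem exists_char_unit (hG : Red.IsReductive G) (α : T ⟶ Red.Gm S) [IsMonHom α]
    (hα : ∀ s : S, (Over.pullback (Red.geomPt s)).map α ≠ 1) (X : Over S) :
    ∃ (X' : Over S) (f : X' ⟶ X) (τ : X' ⟶ T), Epi f ∧ Surjective f.left ∧
      IsUnit (Red.gmFn (τ ≫ α) - 1) := by
  haveI := smooth_cl i pp pm hG
  let m : Cl T ⟶ T := fst _ _ ≫ snd _ _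
  let h : Γ((Cl T).left, ⊤) := Red.gmFn (m ≫ α) - 1
  have key : ∀ s : S, ∃ c : ↥(Cl T).left, (Cl T).hom.base c = s ∧ c ∈ (Cl T).left.basicOpen h := by
    intro s
    by_contra hne
    push Not at hne
    let g := Red.geomPt s
    let Q : (Over.map g).obj ((Over.pullback g).obj (Cl T)) ⟶ Cl T := (Over.mapPullbackAdj g).counit.app (Cl T)
    haveI : Smooth ((Over.pullback g).obj (Cl T)).hom := MorphismProperty.pullback_snd _ _ inferInstance
    haveI : AlgebraicGeometry.IsReduced ((Over.map g).obj ((Over.pullback g).obj (Cl T))).left :=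
      ASp.isReduced_of_smooth ((Over.pullback g).obj (Cl T)).hom
    have hbot : Q.left ⁻¹ᵁ (Cl T).left.basicOpen h = ⊥ := by
      refine le_bot_iff.1 fun z hz => ?_
      refine hne (Q.left.base z) ?_ hz
      rw [← Scheme.Hom.comp_apply, Over.w Q]
      show g.base (((Over.pullback g).obj (Cl T)).hom.base z) = s
      exact Scheme.fromSpecResidueField_apply s _
    rw [Scheme.preimage_basicOpen_top] at hbot
    have hz : Q.left.appTop h = 0 := (basicOpen_eq_bot_iff _).1 hbot
    have h1 : Q ≫ m ≫ α = 1 := GmPts.gmFn_injective (by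
      show Red.gmFn _ = Red.gmFn _
      rw [GmPts.gmFn_comp, GmPts.gmFn_one]
      simp only [h, map_sub, map_one, sub_eq_zero] at hz
      exact hz)
    let sec : T ⟶ Cl T := lift (lift 1 (𝟙 T)) 1
    have h2 : (Over.mapPullbackAdj g).counit.app T ≫ α = 1 := by
      have hsec : sec ≫ m = 𝟙 T := by simp [sec, m]
      have hn := (Over.mapPullbackAdj g).counit.naturality sec
      dsimp at hn
      calc (Over.mapPullbackAdj g).counit.app T ≫ α
          = ((Over.mapPullbackAdj g).counit.app T ≫ sec) ≫ m ≫ α := by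
            rw [Category.assoc, reassoc_of% hsec]
        _ = (Over.map g).map ((Over.pullback g).map sec) ≫ Q ≫ m ≫ α := by rw [← hn, Category.assoc]
        _ = 1 := by rw [h1, MonObj.comp_one]
    refine hα s ?_
    apply (adjEquiv g (Red.Gm S) ((Over.pullback g).obj T)).symm.injective
    rw [map_one]
    show ((Over.mapPullbackAdj g).homEquiv _ _).symm ((Over.pullback g).map α) = 1
    rw [Adjunction.homEquiv_counit, ← h2]
    exact (Over.mapPullbackAdj g).counit.naturality α
  let W : ((Cl T) ⊗ X).left.Opens := (fst (Cl T) X).left ⁻¹ᵁ (Cl T).left.basicOpen h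
  let X' : Over S := Over.mk (W.ι ≫ ((Cl T) ⊗ X).hom)
  let ιW : X' ⟶ (Cl T) ⊗ X := Over.homMk W.ι
  let f : X' ⟶ X := ιW ≫ snd _ X
  have hf : f.left = W.ι ≫ pullback.snd (Cl T).hom X.hom := rfl
  haveI : Flat f.left := by rw [hf]; infer_instance
  haveI hs : Surjective f.left := by
    refine ⟨fun x => ?_⟩
    obtain ⟨c, hc, hcm⟩ := key (X.hom.base x)
    obtain ⟨z, hz1, hz2⟩ := Scheme.Pullback.exists_preimage_pullback (f := (Cl T).hom) (g := X.hom) c x hc
    exact ⟨⟨z, show (fst (Cl T) X).left.base z ∈ (Cl T).left.basicOpen h from hz1.symm ▸ hcm⟩, hz2⟩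
  haveI : Epi f.left := Flat.epi_of_flat_of_surjective f.left
  refine ⟨X', f, ιW ≫ fst _ X ≫ m, (Over.forget S).epi_of_epi_map this, hs, ?_⟩
  have e : Red.gmFn ((ιW ≫ fst _ X ≫ m) ≫ α) - 1 = (ιW ≫ fst _ X).left.appTop h := by
    simp only [h, map_sub, map_one]
    rw [← GmPts.gmFn_comp]
    simp only [Category.assoc]
  rw [e]
  refine isUnit_of_forall_mem_basicOpen _ fun w => ?_
  rw [← Scheme.preimage_basicOpen_top]
  exact w.2

end Groth.Agent.RankOneCellLib
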