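import Groth.Agent.RankOneCellLib.Morph4
import Groth.Agent.RankOneCellLib.Torus

/-!
# Homomorphisms out of a rank one system are determined and constructed on the big cell
-/

set_option autoImplicit false
set_option backward.isDefEq.respectTransparency false
set_option backward.isDefEq.respectTransparency.types false
set_option linter.style.haveILetI false
set_option linter.unusedSectionVars false

universe u

open CategoryTheory Limits MonoidalCategory CartesianMonoidalCategory MonObj GrpObj AlgebraicGeometry TopologicalSpace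

noncomputable section

namespace Groth.Agent.RankOneCellLib

open Groth.Agent.RankOneRelLib

theorem eq_one_of_comm_shift {Γ' : Type u} [Group Γ'] (hc : ∀ a b : Γ', a * b = b * a) {t v q : Γ'}
    (h : t * v = q⁻¹ * v * t) : q = 1 := by
  rw [hc t v, _root_.mul_assoc] at h
  exact inv_eq_one.1 (mul_eq_right.1 h.symm)

variable {S : Scheme.{u}} {G T : Over S} [GrpObj G] [GrpObj T] {i : T ⟶ G} [IsMonHom i]
    {α : T ⟶ Red.Gm S} [IsMonHom α] {pp pm : Red.Ga S ⟶ G} [IsMonHom pp] [IsMonHom pm]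
    {av : Red.Gm S ⟶ T} [IsMonHom av] [hΩ : IsOpenImmersion (cellMap i pp pm).left]

variable (i pp pm) in
/-- Fppf-locally there is a point all of whose finitely many translates lie in the cell. -/
theorem exists_generic (hG : Red.IsReductive G) {X : Over S} {n : ℕ} (g : Fin n → (X ⟶ G)) :
    ∃ (X' : Over S) (f : X' ⟶ X), Epi f ∧ Surjective f.left ∧
      ∃ ζ : X' ⟶ G, ∀ k, InCell i pp pm (ζ * (f ≫ g k)) := by
  let U : G.left.Opens := (cellMap i pp pm).left.opensRange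
  let h : Fin n → (G ⊗ X ⟶ G) := fun k => fst G X * (snd G X ≫ g k)
  let W : (G ⊗ X).left.Opens := Finset.univ.inf fun k => (h k).left ⁻¹ᵁ U
  have hW : ∀ (z : ↥(G ⊗ X).left), (∀ k, (h k).left.base z ∈ U) → z ∈ W := fun z hz => by
    have : ∀ s : Finset (Fin n), z ∈ s.inf fun k => (h k).left ⁻¹ᵁ U := fun s => by
      induction s using Finset.cons_induction with
      | empty => exact trivial
      | cons k s hk ih => rw [Finset.inf_cons]; exact ⟨hz k, ih⟩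
    exact this _
  let X' : Over S := Over.mk (W.ι ≫ (G ⊗ X).hom)
  let ιW : X' ⟶ G ⊗ X := Over.homMk W.ι
  let f : X' ⟶ X := ιW ≫ snd G X
  have hf : f.left = W.ι ≫ pullback.snd G.hom X.hom := rfl
  haveI := hG.2.1
  haveI : Flat f.left := by rw [hf]; infer_instance
  haveI hs : Surjective f.left := by
    refine ⟨fun x => ?_⟩
    let K := AlgebraicClosure (X.left.residueField x)
    let yl : Spec (CommRingCat.of K) ⟶ X.left :=
      Spec.map (CommRingCat.ofHom (algebraMap (X.left.residueField x) K)) ≫ X.left.fromSpecResidueField x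
    let P : Over S := Over.mk (yl ≫ X.hom)
    let y : P ⟶ X := Over.homMk yl
    haveI : IrreducibleSpace ↥(G ⊗ P).left := irreducibleSpace_tensor hG (yl ≫ X.hom)
    let F : G ⊗ P ⟶ G ⊗ X := G ◁ y
    let ξ : ↥(G ⊗ P).left := genericPoint _
    refine ⟨⟨F.left.base ξ, hW _ fun k => ?_⟩, ?_⟩
    · let e : P ⟶ G ⊗ P := lift (y ≫ g k)⁻¹ (𝟙 P)
      have he : e ≫ F ≫ h k = 1 := by
        simp only [e, F, h, MonObj.comp_mul, lift_whiskerLeft_assoc, lift_fst, lift_snd_assoc, Category.id_comp,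
          inv_mul_cancel]
      have hmem : e.left.base (IsLocalRing.closedPoint K) ∈ (F ≫ h k).left ⁻¹ᵁ U := by
        have h1 := inCell_one i pp pm P ⟨IsLocalRing.closedPoint K, rfl⟩
        rw [← he] at h1
        exact h1
      exact ((genericPoint_spec ↥(G ⊗ P).left).mem_open_set_iff ((F ≫ h k).left ⁻¹ᵁ U).2).2
        ⟨_, trivial, hmem⟩
    · show (F ≫ snd G X).left.base ξ = x
      rw [whiskerLeft_snd]
      show yl.base ((snd G P).left.base ξ) = x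
      exact Scheme.fromSpecResidueField_apply x _
  haveI : Epi f.left := Flat.epi_of_flat_of_surjective f.left
  refine ⟨X', f, (Over.forget S).epi_of_epi_map this, hs, ιW ≫ fst G X, fun k => ?_⟩
  rintro _ ⟨w, rfl⟩
  have e : (ιW ≫ fst G X) * (f ≫ g k) = ιW ≫ h k := by simp only [h, f, MonObj.comp_mul, Category.assoc]
  rw [e]
  have hw : ∀ s : Finset (Fin n), ∀ z, z ∈ (s.inf fun k => (h k).left ⁻¹ᵁ U) → ∀ k ∈ s, (h k).left.base z ∈ U :=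
    fun s z hz k hk => (Finset.inf_le (f := fun k => (h k).left ⁻¹ᵁ U) hk) hz
  exact hw _ _ w.2 k (Finset.mem_univ k)

variable (hT : Red.IsTorus T)
    (hpp : ∀ (X : Over S) (t : X ⟶ T) (x : X ⟶ Red.Ga S), ∃ x' : X ⟶ Red.Ga S,
      x' ≫ pp = (t ≫ i) * (x ≫ pp) * (t ≫ i)⁻¹ ∧ Red.gaFn x' = Red.gmFn (t ≫ α) * Red.gaFn x)
    (hpm : ∀ (X : Over S) (t : X ⟶ T) (y : X ⟶ Red.Ga S), ∃ y' : X ⟶ Red.Ga S,
      y' ≫ pm = (t ≫ i) * (y ≫ pm) * (t ≫ i)⁻¹ ∧ Red.gaFn y' * Red.gmFn (t ≫ α) = Red.gaFn y)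
    (h2 : av ≫ α = (𝟙 (Red.Gm S)) ^ 2)
    (hF : ∀ (X : Over S) (x y : X ⟶ Red.Ga S), IsUnit (1 + Red.gaFn x * Red.gaFn y) →
      ∃ (x' y' : X ⟶ Red.Ga S) (z : X ⟶ Red.Gm S), Red.gmFn z = 1 + Red.gaFn x * Red.gaFn y ∧
        Red.gaFn x' * Red.gmFn z = Red.gaFn x ∧ Red.gaFn y' * Red.gmFn z = Red.gaFn y ∧
        (x ≫ pp) * (y ≫ pm) = (y' ≫ pm) * (z ≫ av ≫ i) * (x' ≫ pp))

include hpp hpm h2 hF in
theorem sys_cell_inj {X : Over S} {a a' b b' : Γ(X.left, ⊤)} {t t' : X ⟶ T}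
    (h : (sys hpp hpm h2 hF X).M a * (sys hpp hpm h2 hF X).I t * (sys hpp hpm h2 hF X).P b =
      (sys hpp hpm h2 hF X).M a' * (sys hpp hpm h2 hF X).I t' * (sys hpp hpm h2 hF X).P b') :
    a = a' ∧ t = t' ∧ b = b' := by
  obtain ⟨h1, h2', h3⟩ := cell_inj i pp pm (a := gp a) (t := t) (b := gp b) (a' := gp a') (t' := t') (b' := gp b') h
  exact ⟨by simpa [gaFn_gp] using congrArg Red.gaFn h1, h2', by simpa [gaFn_gp] using congrArg Red.gaFn h3⟩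

include hT hpp hpm h2 hF in
/-- A product `p₊(x) p₋(y)` lies in the cell only when `1 + x y` is invertible. -/
theorem unit_of_inCell {X : Over S} (x y : Γ(X.left, ⊤))
    (hin : InCell i pp pm ((gp x ≫ pp) * (gp y ≫ pm))) : IsUnit (1 + x * y) := by
  refine isUnit_of_forall_mem_basicOpen _ fun s => ?_
  by_contra hs
  obtain ⟨K, _, _, P, φ, e, z, hz⟩ := exists_geomPt X s
  let σ := sys hpp hpm h2 hF P
  set x₀ := e.left.appTop x with hx₀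
  set y₀ := e.left.appTop y with hy₀
  have h0 : 1 + x₀ * y₀ = 0 := by
    rcases eq_or_ne (φ.symm (e.left.appTop (1 + x * y))) 0 with h | h
    · rw [hx₀, hy₀, ← map_mul, ← map_one e.left.appTop.hom, ← map_add,
        ← φ.apply_symm_apply (e.left.appTop.hom (1 + x * y))]
      exact (congrArg φ h).trans (map_zero φ)
    · refine absurd ?_ hs
      have hu : IsUnit (e.left.appTop (1 + x * y)) := by
        rw [← φ.apply_symm_apply (e.left.appTop (1 + x * y))]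
        exact (isUnit_iff_ne_zero.2 h).map φ
      have hm : z ∈ e.left ⁻¹ᵁ X.left.basicOpen (1 + x * y) := by
        rw [Scheme.preimage_basicOpen_top, Scheme.basicOpen_of_isUnit _ hu]
        trivial
      rw [← hz]
      exact hm
  have hxy : y₀ * x₀ = -1 := by linear_combination h0
  -- the Weyl element would lie in the cell
  have hin' : InCell i pp pm (e ≫ ((gp x ≫ pp) * (gp y ≫ pm))) := inCell_comp i pp pm e hin
  rw [MonObj.comp_mul, ← Category.assoc, ← Category.assoc, comp_gp, comp_gp] at hin'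
  obtain ⟨a, t, b, hab⟩ := exists_of_inCell i pp pm hin'
  have hw : σ.w x₀ y₀ = σ.M (Red.gaFn a) * σ.I t * σ.P (Red.gaFn b + x₀) := by
    rw [σ.P_add, ← _root_.mul_assoc, sys_M hpp hpm h2 hF, sys_P hpp hpm h2 hF, sys_I hpp hpm h2 hF, hab]
    rfl
  obtain ⟨v, hv⟩ := exists_pow_ne_one φ (n := 4) (by omega)
  set q := σ.al (σ.av v) with hq
  have h1 := σ.w_conj_torus x₀ y₀ hxy (σ.av v)
  rw [← hq, hw] at h1
  have h3 : σ.M (Red.gaFn a) * σ.I t * σ.P (Red.gaFn b + x₀) * σ.I (σ.av v) =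
      σ.I ((σ.av q)⁻¹ * σ.av v) * (σ.M (Red.gaFn a) * σ.I t * σ.P (Red.gaFn b + x₀)) := by
    rw [map_mul σ.I, map_inv σ.I, ← h1, inv_mul_cancel_right]
  have hc : ∀ s₁ s₂ : P ⟶ T, s₁ * s₂ = s₂ * s₁ := fun p₁ p₂ => pts_comm_of_isTorus hT p₁ p₂
  have h4 : σ.M (Red.gaFn a) * σ.I (t * σ.av v) * σ.P ((σ.al (σ.av v))⁻¹.1 * (Red.gaFn b + x₀)) =
      σ.M ((σ.al ((σ.av q)⁻¹ * σ.av v))⁻¹.1 * Red.gaFn a) * σ.I ((σ.av q)⁻¹ * σ.av v * t) *
        σ.P (Red.gaFn b + x₀) := by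
    rw [map_mul σ.I t, map_mul σ.I ((σ.av q)⁻¹ * σ.av v) t, ← _root_.mul_assoc (σ.M _),
      _root_.mul_assoc _ (σ.I (σ.av v)), ← σ.P_I, ← _root_.mul_assoc, h3, ← _root_.mul_assoc, ← _root_.mul_assoc,
      σ.I_M, _root_.mul_assoc (σ.M _) (σ.I ((σ.av q)⁻¹ * σ.av v)) (σ.I t)]
  obtain ⟨-, h5, -⟩ := sys_cell_inj hpp hpm h2 hF h4
  have h6 := congrArg (fun r => (σ.al r : Γ(P.left, ⊤))) (eq_one_of_comm_shift hc h5)
  simp only [hq, σ.al_av, map_one, Units.val_mul, Units.val_one] at h6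
  exact hv (by linear_combination h6)

include hT hpp hpm h2 hF in
/-- The product of two cell points lying in the cell is given by the universal formula. -/
theorem cell_mult {H : Over S} [GrpObj H] {fT : T ⟶ H} [IsMonHom fT] {fα fβ : Red.Ga S ⟶ H} [IsMonHom fα]
    [IsMonHom fβ]
    (hα' : ∀ (X : Over S) (t : X ⟶ T) (x : X ⟶ Red.Ga S), ∃ x' : X ⟶ Red.Ga S,
      x' ≫ fα = (t ≫ fT) * (x ≫ fα) * (t ≫ fT)⁻¹ ∧ Red.gaFn x' = Red.gmFn (t ≫ α) * Red.gaFn x)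
    (hβ' : ∀ (X : Over S) (t : X ⟶ T) (y : X ⟶ Red.Ga S), ∃ y' : X ⟶ Red.Ga S,
      y' ≫ fβ = (t ≫ fT) * (y ≫ fβ) * (t ≫ fT)⁻¹ ∧ Red.gaFn y' * Red.gmFn (t ≫ α) = Red.gaFn y)
    (hF' : ∀ (X : Over S) (x y : X ⟶ Red.Ga S), IsUnit (1 + Red.gaFn x * Red.gaFn y) →
      ∃ (x' y' : X ⟶ Red.Ga S) (z : X ⟶ Red.Gm S), Red.gmFn z = 1 + Red.gaFn x * Red.gaFn y ∧
        Red.gaFn x' * Red.gmFn z = Red.gaFn x ∧ Red.gaFn y' * Red.gmFn z = Red.gaFn y ∧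
        (x ≫ fα) * (y ≫ fβ) = (y' ≫ fβ) * (z ≫ av ≫ fT) * (x' ≫ fα))
    {X : Over S} (ω₁ ω₂ ω₃ : X ⟶ Cl T)
    (h : (ω₁ ≫ cellMap i pp pm) * (ω₂ ≫ cellMap i pp pm) = ω₃ ≫ cellMap i pp pm) :
    (ω₁ ≫ cellMap fT fα fβ) * (ω₂ ≫ cellMap fT fα fβ) = ω₃ ≫ cellMap fT fα fβ := by
  let σ := sys hpp hpm h2 hF X
  let τ := sys hα' hβ' h2 hF' X
  have hc : ∀ {K : Over S} [GrpObj K] (u : T ⟶ K) (vp vm : Red.Ga S ⟶ K) (ω : X ⟶ Cl T),
      ω ≫ cellMap u vp vm = (gp (Red.gaFn (ω ≫ fst _ _ ≫ fst _ _)) ≫ vm) * ((ω ≫ fst _ _ ≫ snd _ _) ≫ u) *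
        (gp (Red.gaFn (ω ≫ snd _ _)) ≫ vp) := fun u vp vm ω => by
    rw [gp_gaFn, gp_gaFn, cellMap_eq]
    simp only [Category.assoc]
  simp only [hc] at h ⊢
  set a₁ := Red.gaFn (ω₁ ≫ fst _ _ ≫ fst _ _)
  set t₁ := ω₁ ≫ fst _ _ ≫ snd _ _
  set b₁ := Red.gaFn (ω₁ ≫ snd _ _)
  set a₂ := Red.gaFn (ω₂ ≫ fst _ _ ≫ fst _ _)
  set t₂ := ω₂ ≫ fst _ _ ≫ snd _ _
  set b₂ := Red.gaFn (ω₂ ≫ snd _ _)
  set a₃ := Red.gaFn (ω₃ ≫ fst _ _ ≫ fst _ _)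
  set t₃ := ω₃ ≫ fst _ _ ≫ snd _ _
  set b₃ := Red.gaFn (ω₃ ≫ snd _ _)
  change σ.M a₁ * σ.I t₁ * σ.P b₁ * (σ.M a₂ * σ.I t₂ * σ.P b₂) = σ.M a₃ * σ.I t₃ * σ.P b₃ at h
  show τ.M a₁ * τ.I t₁ * τ.P b₁ * (τ.M a₂ * τ.I t₂ * τ.P b₂) = τ.M a₃ * τ.I t₃ * τ.P b₃
  have hu : IsUnit (1 + b₁ * a₂) := by
    refine unit_of_inCell hT hpp hpm h2 hF b₁ a₂ ?_
    show InCell i pp pm (σ.P b₁ * σ.M a₂)
    have e : σ.P b₁ * σ.M a₂ = σ.M ((σ.al t₁⁻¹)⁻¹.1 * (a₃ - a₁)) * σ.I (t₁⁻¹ * t₃ * t₂⁻¹) *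
        σ.P ((σ.al t₂⁻¹)⁻¹.1 * (b₃ - b₂)) := by
      have e1 : σ.P b₁ * σ.M a₂ = σ.I t₁⁻¹ * ((σ.M a₁)⁻¹ * (σ.M a₃ * σ.I t₃ * σ.P b₃) * (σ.P b₂)⁻¹) * σ.I t₂⁻¹ := by
        rw [← h, map_inv, map_inv]
        group
      rw [e1, show (σ.M a₁)⁻¹ * (σ.M a₃ * σ.I t₃ * σ.P b₃) * (σ.P b₂)⁻¹ = σ.M (a₃ - a₁) * σ.I t₃ * σ.P (b₃ - b₂) by
        rw [sub_eq_neg_add, σ.M_add, σ.M_neg, sub_eq_add_neg, σ.P_add, σ.P_neg]; simp only [_root_.mul_assoc]]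
      rw [map_mul σ.I, map_mul σ.I]
      calc σ.I t₁⁻¹ * (σ.M (a₃ - a₁) * σ.I t₃ * σ.P (b₃ - b₂)) * σ.I t₂⁻¹
          = σ.I t₁⁻¹ * σ.M (a₃ - a₁) * σ.I t₃ * (σ.P (b₃ - b₂) * σ.I t₂⁻¹) := by simp only [_root_.mul_assoc]
        _ = _ := by rw [σ.I_M, σ.P_I]; simp only [_root_.mul_assoc]
    rw [e]
    exact inCell_cell i pp pm (gp _) _ (gp _)
  obtain ⟨u, hu⟩ := hu
  have hy : ((a₁ + a₂ * ((u * σ.al t₁)⁻¹).1) - a₁) * u * σ.al t₁ = a₂ := by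
    have e := Units.inv_mul (u * σ.al t₁)
    rw [Units.val_mul] at e
    linear_combination a₂ * e
  have hx : ((b₂ + b₁ * ((u * σ.al t₂)⁻¹).1) - b₂) * u * σ.al t₂ = b₁ := by
    have e := Units.inv_mul (u * σ.al t₂)
    rw [Units.val_mul] at e
    linear_combination b₁ * e
  rw [τ.cell_mul _ _ _ _ (a₁ + a₂ * ((u * σ.al t₁)⁻¹).1) (b₂ + b₁ * ((u * σ.al t₂)⁻¹).1) t₁ t₂ u hu hy hx]
  rw [σ.cell_mul _ _ _ _ (a₁ + a₂ * ((u * σ.al t₁)⁻¹).1) (b₂ + b₁ * ((u * σ.al t₂)⁻¹).1) t₁ t₂ u hu hy hx] at h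
  obtain ⟨k1', k2, k3'⟩ := sys_cell_inj hpp hpm h2 hF h
  rw [← k1', ← k3', ← k2]
  rfl

theorem epi_of_flat_surj {A B : Over S} (g : A ⟶ B) (hfl : Flat g.left) (hsu : Surjective g.left) : Epi g := by
  haveI := hfl
  haveI := hsu
  haveI : Epi g.left := Flat.epi_of_flat_of_surjective g.left
  exact (Over.forget S).epi_of_epi_map this

/-- Homomorphisms agreeing on the big cell are equal. -/
theorem hom_ext_cell (hG : Red.IsReductive G) {H : Over S} [GrpObj H] (f g : G ⟶ H) [IsMonHom f] [IsMonHom g]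
    (h : cellMap i pp pm ≫ f = cellMap i pp pm ≫ g) : f = g := by
  haveI := epi_of_flat_surj _ (flat_pairMap i pp pm hG) (surjective_pairMap i pp pm hG)
  refine (cancel_epi (pairMap i pp pm)).1 ?_
  simp only [pairMap, MonObj.mul_comp, GrpObj.inv_comp, Category.assoc, h]

theorem lofp_pairMap (hG : Red.IsReductive G) : LocallyOfFinitePresentation (pairMap i pp pm).left := by
  haveI := hG.2.1
  let e : G ⊗ G ≅ G ⊗ G :=
    ⟨lift (fst G G) ((fst G G)⁻¹ * snd G G), lift (fst G G) (fst G G * snd G G),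
      by apply CartesianMonoidalCategory.hom_ext <;> simp [MonObj.comp_mul, GrpObj.comp_inv],
      by apply CartesianMonoidalCategory.hom_ext <;> simp [MonObj.comp_mul, GrpObj.comp_inv]⟩
  have he : pairMap i pp pm = (cellMap i pp pm ⊗ₘ cellMap i pp pm) ≫ e.hom ≫ snd G G := by
    simp [e, pairMap, MonObj.comp_mul, GrpObj.comp_inv]
  rw [he, Over.comp_left, Over.comp_left]
  haveI : LocallyOfFinitePresentation (cellMap i pp pm ⊗ₘ cellMap i pp pm).left :=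
    tensorHom_prop @LocallyOfFinitePresentation _ _ inferInstance inferInstance
  haveI : IsIso e.hom.left := ((Over.forget S).mapIso e).isIso_hom
  haveI : LocallyOfFinitePresentation G.hom := inferInstance
  haveI : LocallyOfFinitePresentation (snd G G).left := MorphismProperty.pullback_snd _ _ inferInstance
  infer_instance

/-- The unit point of the cell. -/
abbrev oneω (X : Over S) : X ⟶ Cl T := lift (lift 1 1) 1

theorem oneω_cell {H : Over S} [GrpObj H] (fT : T ⟶ H) [IsMonHom fT] (fα fβ : Red.Ga S ⟶ H) [IsMonHom fα]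
    [IsMonHom fβ] (X : Over S) : oneω (T := T) X ≫ cellMap fT fα fβ = 1 := by
  rw [lift_cellMap, MonObj.one_comp, MonObj.one_comp, MonObj.one_comp, _root_.one_mul, _root_.one_mul]

variable (i pp pm) in
theorem exists_omega {X : Over S} {g : X ⟶ G} (hg : InCell i pp pm g) : ∃ ω : X ⟶ Cl T, ω ≫ cellMap i pp pm = g := by
  obtain ⟨a, t, b, h⟩ := exists_of_inCell i pp pm hg
  exact ⟨lift (lift a t) b, by rw [lift_cellMap, h]⟩

include hT hpp hpm h2 hF in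
/-- A homomorphism of a rank one group is given by homomorphisms on the torus and the root groups
satisfying the rank one relations. -/
theorem exists_hom (hG : Red.IsReductive G) {H : Over S} [GrpObj H] {fT : T ⟶ H} [IsMonHom fT]
    {fα fβ : Red.Ga S ⟶ H} [IsMonHom fα] [IsMonHom fβ]
    (hα' : ∀ (X : Over S) (t : X ⟶ T) (x : X ⟶ Red.Ga S), ∃ x' : X ⟶ Red.Ga S,
      x' ≫ fα = (t ≫ fT) * (x ≫ fα) * (t ≫ fT)⁻¹ ∧ Red.gaFn x' = Red.gmFn (t ≫ α) * Red.gaFn x)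
    (hβ' : ∀ (X : Over S) (t : X ⟶ T) (y : X ⟶ Red.Ga S), ∃ y' : X ⟶ Red.Ga S,
      y' ≫ fβ = (t ≫ fT) * (y ≫ fβ) * (t ≫ fT)⁻¹ ∧ Red.gaFn y' * Red.gmFn (t ≫ α) = Red.gaFn y)
    (hF' : ∀ (X : Over S) (x y : X ⟶ Red.Ga S), IsUnit (1 + Red.gaFn x * Red.gaFn y) →
      ∃ (x' y' : X ⟶ Red.Ga S) (z : X ⟶ Red.Gm S), Red.gmFn z = 1 + Red.gaFn x * Red.gaFn y ∧
        Red.gaFn x' * Red.gmFn z = Red.gaFn x ∧ Red.gaFn y' * Red.gmFn z = Red.gaFn y ∧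
        (x ≫ fα) * (y ≫ fβ) = (y' ≫ fβ) * (z ≫ av ≫ fT) * (x' ≫ fα)) :
    ∃ f : G ⟶ H, IsMonHom f ∧ cellMap i pp pm ≫ f = cellMap fT fα fβ := by
  let c := cellMap i pp pm
  let d := cellMap fT fα fβ
  have hm := fun {X : Over S} (ω₁ ω₂ ω₃ : X ⟶ Cl T) (h : (ω₁ ≫ c) * (ω₂ ≫ c) = ω₃ ≫ c) =>
    cell_mult hT hpp hpm h2 hF hα' hβ' hF' ω₁ ω₂ ω₃ h
  -- independence of the presentation
  have key : ∀ {X : Over S} (ω₁ ω₂ ω₃ ω₄ : X ⟶ Cl T), (ω₁ ≫ c)⁻¹ * (ω₂ ≫ c) = (ω₃ ≫ c)⁻¹ * (ω₄ ≫ c) →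
      (ω₁ ≫ d)⁻¹ * (ω₂ ≫ d) = (ω₃ ≫ d)⁻¹ * (ω₄ ≫ d) := by
    intro X ω₁ ω₂ ω₃ ω₄ h
    obtain ⟨X', p, hp, -, ζ, hζ⟩ := exists_generic i pp pm hG
      ![1, (ω₁ ≫ c)⁻¹ * (ω₂ ≫ c), (ω₁ ≫ c)⁻¹, (ω₃ ≫ c)⁻¹]
    haveI := hp
    obtain ⟨k₀, (hk₀ : k₀ ≫ c = _)⟩ := exists_omega i pp pm (hζ 0)
    obtain ⟨k₁, (hk₁ : k₁ ≫ c = _)⟩ := exists_omega i pp pm (hζ 1)
    obtain ⟨l₁, (hl₁ : l₁ ≫ c = _)⟩ := exists_omega i pp pm (hζ 2)
    obtain ⟨l₃, (hl₃ : l₃ ≫ c = _)⟩ := exists_omega i pp pm (hζ 3)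
    simp only [Matrix.cons_val_zero, Matrix.cons_val_one, Matrix.cons_val, MonObj.comp_one, _root_.mul_one,
      MonObj.comp_mul, GrpObj.comp_inv] at hk₀ hk₁ hl₁ hl₃
    have h' := congrArg (fun r => p ≫ r) h
    simp only [MonObj.comp_mul, GrpObj.comp_inv] at h'
    apply (cancel_epi p).1
    simp only [MonObj.comp_mul, GrpObj.comp_inv]
    have e₁ : (l₁ ≫ d) * (p ≫ ω₁ ≫ d) = k₀ ≫ d := by
      rw [← Category.assoc p ω₁ d]
      exact hm _ _ _ (by rw [Category.assoc p ω₁ c, hl₁, hk₀, inv_mul_cancel_right])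
    have e₂ : (l₁ ≫ d) * (p ≫ ω₂ ≫ d) = k₁ ≫ d := by
      rw [← Category.assoc p ω₂ d]
      exact hm _ _ _ (by rw [Category.assoc p ω₂ c, hl₁, hk₁, _root_.mul_assoc])
    have e₃ : (l₃ ≫ d) * (p ≫ ω₃ ≫ d) = k₀ ≫ d := by
      rw [← Category.assoc p ω₃ d]
      exact hm _ _ _ (by rw [Category.assoc p ω₃ c, hl₃, hk₀, inv_mul_cancel_right])
    have e₄ : (l₃ ≫ d) * (p ≫ ω₄ ≫ d) = k₁ ≫ d := by
      rw [← Category.assoc p ω₄ d]
      exact hm _ _ _ (by rw [Category.assoc p ω₄ c, hl₃, hk₁, h', _root_.mul_assoc])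
    calc (p ≫ ω₁ ≫ d)⁻¹ * (p ≫ ω₂ ≫ d) = (k₀ ≫ d)⁻¹ * (k₁ ≫ d) := by rw [← e₁, ← e₂]; group
      _ = _ := by rw [← e₃, ← e₄]; group
  let F₂ : Cl T ⊗ Cl T ⟶ H := pairMap fT fα fβ
  let κ := pairMap i pp pm
  haveI := flat_pairMap i pp pm hG
  haveI := surjective_pairMap i pp pm hG
  haveI := lofp_pairMap (i := i) (pp := pp) (pm := pm) hG
  have hcomp : ∀ {Z : Scheme.{u}} (g₁ g₂ : Z ⟶ (Cl T ⊗ Cl T).left), g₁ ≫ κ.left = g₂ ≫ κ.left →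
      g₁ ≫ F₂.left = g₂ ≫ F₂.left := by
    intro Z g₁ g₂ hg
    have hw : g₂ ≫ (Cl T ⊗ Cl T).hom = g₁ ≫ (Cl T ⊗ Cl T).hom := by
      rw [← Over.w κ, ← Category.assoc, ← hg, Category.assoc]
    let Z' : Over S := Over.mk (g₁ ≫ (Cl T ⊗ Cl T).hom)
    let u₁ : Z' ⟶ Cl T ⊗ Cl T := Over.homMk g₁
    let u₂ : Z' ⟶ Cl T ⊗ Cl T := Over.homMk g₂ hw
    have h := key (u₁ ≫ fst _ _) (u₁ ≫ snd _ _) (u₂ ≫ fst _ _) (u₂ ≫ snd _ _) (by
      have e : u₁ ≫ κ = u₂ ≫ κ := Over.OverMorphism.ext hg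
      simpa [κ, pairMap, c, MonObj.comp_mul, GrpObj.comp_inv] using e)
    have e : u₁ ≫ F₂ = u₂ ≫ F₂ := by
      simpa [F₂, pairMap, d, MonObj.comp_mul, GrpObj.comp_inv] using h
    exact congrArg CommaMorphism.left e
  let fl : G.left ⟶ H.left := EffectiveEpi.desc κ.left F₂.left fun g₁ g₂ hg => hcomp g₁ g₂ hg
  have hfl : κ.left ≫ fl = F₂.left := EffectiveEpi.fac _ _ _
  haveI : Epi κ.left := inferInstance
  have hfw : fl ≫ H.hom = G.hom := by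
    rw [← cancel_epi κ.left, ← Category.assoc, hfl, Over.w F₂, Over.w κ]
  let f : G ⟶ H := Over.homMk fl hfw
  have hκf : κ ≫ f = F₂ := Over.OverMorphism.ext hfl
  have hval : ∀ {X : Over S} (ω₁ ω₂ : X ⟶ Cl T),
      ((ω₁ ≫ c)⁻¹ * (ω₂ ≫ c)) ≫ f = (ω₁ ≫ d)⁻¹ * (ω₂ ≫ d) := fun ω₁ ω₂ => by
    have e := congrArg (fun r => lift ω₁ ω₂ ≫ r) hκf
    rw [← Category.assoc] at e
    simpa [κ, F₂, pairMap, MonObj.comp_mul, GrpObj.comp_inv, c, d, -Category.assoc, lift_fst, lift_snd,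
      ← Category.assoc] using e
  have hcell : c ≫ f = d := by
    have e := hval (oneω (T := T) (Cl T)) (𝟙 _)
    rw [oneω_cell i pp pm, oneω_cell fT fα fβ] at e
    simp only [_root_.inv_one, _root_.one_mul, Category.id_comp] at e
    exact e
  have hmul : ∀ {X : Over S} (g g' : X ⟶ G), (g * g') ≫ f = (g ≫ f) * (g' ≫ f) := by
    intro X g g'
    obtain ⟨X', p, hp, -, ζ, hζ⟩ := exists_generic i pp pm hG ![1, g, g * g']
    haveI := hp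
    obtain ⟨k₀, (hk₀ : k₀ ≫ c = _)⟩ := exists_omega i pp pm (hζ 0)
    obtain ⟨k₁, (hk₁ : k₁ ≫ c = _)⟩ := exists_omega i pp pm (hζ 1)
    obtain ⟨k₂, (hk₂ : k₂ ≫ c = _)⟩ := exists_omega i pp pm (hζ 2)
    simp only [Matrix.cons_val_zero, Matrix.cons_val_one, Matrix.cons_val, MonObj.comp_one, _root_.mul_one,
      MonObj.comp_mul] at hk₀ hk₁ hk₂
    apply (cancel_epi p).1
    rw [MonObj.comp_mul, ← Category.assoc, ← Category.assoc, ← Category.assoc, MonObj.comp_mul,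
      show p ≫ g = (k₀ ≫ c)⁻¹ * (k₁ ≫ c) by rw [hk₀, hk₁, inv_mul_cancel_left],
      show p ≫ g' = (k₁ ≫ c)⁻¹ * (k₂ ≫ c) by rw [hk₁, hk₂]; group,
      hval, hval, _root_.mul_assoc, mul_inv_cancel_left, hval, _root_.mul_assoc, mul_inv_cancel_left]
  refine ⟨f, ⟨?_, ?_⟩, hcell⟩
  · have e := hmul (1 : 𝟙_ (Over S) ⟶ G) 1
    rw [_root_.one_mul, left_eq_mul] at e
    rwa [one_eq_one, one_eq_one]
  · rw [mul_eq_mul, mul_eq_mul, hmul, MonObj.comp_mul, tensorHom_fst, tensorHom_snd]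

end Groth.Agent.RankOneCellLib
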