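import Groth.Agent.RankOneCellLib.Ext
import Groth.Agent.RankOneCellLib.CharFibre
import Groth.Agent.GmTorsor.Points

/-!
# Generators and relations in rank one

The commutation rule between the two root groups follows from the relations between the torus, one
root group and a Weyl element.
-/

set_option autoImplicit false
set_option backward.isDefEq.respectTransparency false
set_option backward.isDefEq.respectTransparency.types false
set_option linter.style.haveILetI false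
set_option linter.unusedSectionVars false

universe u

open CategoryTheory Limits MonoidalCategory CartesianMonoidalCategory MonObj GrpObj AlgebraicGeometry TopologicalSpace

noncomputable section

namespace Groth.Agent.RankOneCellLib

open Groth.Agent.RankOneRelLib

section Abstract

variable {R K T : Type u} [CommRing R] [Group K] [CommGroup T] (P : R → K) (I : T →* K) (al : T →* Rˣ)
  (av : Rˣ →* T) (n : K) (hadd : ∀ a b, P (a + b) = P a * P b) (hal : ∀ z, al (av z) = z * z)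
  (h1 : ∀ t a, I t * P a = P (al t * a) * I t) (h2 : ∀ t, n * I t = I (t * (av (al t))⁻¹) * n)
  (h3 : n * n = I (av (-1))) (h4 : (n * P 1) ^ 3 = 1)

include hal h2 in
theorem rel_n_av (z : Rˣ) : n * I (av z) = I (av z⁻¹) * n := by
  rw [h2, hal, ← map_inv av, ← map_mul av, _root_.mul_inv_rev, mul_inv_cancel_left]

include hadd in
theorem rel_P_neg (a : R) : P (-a) = (P a)⁻¹ := by
  have h0 : P 0 = 1 := by simpa using hadd 0 0
  exact eq_inv_of_mul_eq_one_left (by rw [← hadd, neg_add_cancel, h0])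

include hal h1 in
theorem rel_eps_P (a : R) : I (av (-1)) * P a = P a * I (av (-1)) := by
  rw [h1, hal]
  simp

include hadd hal h1 h2 h3 h4 in
theorem rel_key_one : n * P 1 * n⁻¹ = P (-1) * n * P (-1) := by
  set e := I (av (-1)) with he
  have hee : e * e = 1 := by rw [he, ← map_mul, ← map_mul, neg_mul_neg, _root_.one_mul, map_one, map_one]
  have heP : ∀ a, e * P a = P a * e := fun a => rel_eps_P P I al av hal h1 a
  have hn : n⁻¹ = n * e := by
    apply inv_eq_of_mul_eq_one_right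
    rw [← _root_.mul_assoc, h3, hee]
  have hnPn : n * P 1 * n = P (-1) * n⁻¹ * P (-1) := by
    rw [rel_P_neg P hadd]
    have h := h4
    rw [pow_succ, pow_two] at h
    calc n * P 1 * n = (n * P 1 * (n * P 1) * (n * P 1)) * ((P 1)⁻¹ * n⁻¹ * (P 1)⁻¹) := by group
      _ = _ := by rw [h, _root_.one_mul]
  calc n * P 1 * n⁻¹ = n * P 1 * n * e := by rw [hn]; group
    _ = P (-1) * n⁻¹ * P (-1) * e := by rw [hnPn]
    _ = P (-1) * n * e * (e * P (-1)) := by rw [hn, heP]; group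
    _ = P (-1) * n * (e * e) * P (-1) := by group
    _ = _ := by rw [hee, _root_.mul_one]

include hadd hal h1 h2 h3 h4 in
theorem rel_key_root (z : Rˣ) (t : T) (ht : al t = z) :
    n * P z⁻¹.1 * n⁻¹ = P (-z) * I (av z) * n * P (-z) := by
  have hJ : I t * n = I (av z) * n * I t := by
    rw [_root_.mul_assoc, h2, ht, ← _root_.mul_assoc, ← map_mul, mul_comm t, mul_inv_cancel_left]
  have hP : ∀ a, I t * P a = P (z * a) * I t := fun a => by rw [h1, ht]
  have hK := congrArg (fun g => I t * g * (I t)⁻¹) (rel_key_one P I al av n hadd hal h1 h2 h3 h4)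
  have e1 : I t * (n * P 1 * n⁻¹) * (I t)⁻¹ = n * P z⁻¹.1 * n⁻¹ := by
    have hn' : I (av z) * n = n * I (av z⁻¹) := by rw [rel_n_av I al av n hal h2, _root_.inv_inv]
    calc I t * (n * P 1 * n⁻¹) * (I t)⁻¹
        = (I t * n) * P 1 * (I t * n)⁻¹ := by group
      _ = I (av z) * n * (I t * P 1) * (I (av z) * n * I t)⁻¹ := by rw [hJ]; group
      _ = I (av z) * n * P z * (I (av z) * n)⁻¹ := by rw [hP, _root_.mul_one]; group
      _ = n * (I (av z⁻¹) * P z) * (n * I (av z⁻¹))⁻¹ := by rw [hn']; group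
      _ = _ := by
        rw [h1, hal, show ((z⁻¹ * z⁻¹ : Rˣ) : R) * z = z⁻¹.1 by
          rw [Units.val_mul, _root_.mul_assoc, Units.inv_mul, _root_.mul_one]]
        group
  rw [← e1, hK]
  calc I t * (P (-1) * n * P (-1)) * (I t)⁻¹
      = (I t * P (-1)) * n * P (-1) * (I t)⁻¹ := by group
    _ = P (-z) * (I t * n) * P (-1) * (I t)⁻¹ := by rw [hP, mul_neg, _root_.mul_one]; group
    _ = P (-z) * I (av z) * n * (I t * P (-1)) * (I t)⁻¹ := by rw [hJ]; group
    _ = _ := by rw [hP, mul_neg, _root_.mul_one]; group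

variable (hk : ∀ z : Rˣ, n * P z⁻¹.1 * n⁻¹ = P (-z) * I (av z) * n * P (-z))

include hadd hal h1 h2 hk in
theorem rel_rule_unit (a b : R) (hb : IsUnit b) (u : Rˣ) (hu : (u : R) = 1 + a * b) :
    P a * (n * P (-b) * n⁻¹) = n * P (-(b * u⁻¹.1)) * n⁻¹ * I (av u) * P (a * u⁻¹.1) := by
  obtain ⟨b, rfl⟩ := hb
  have k1 := hk (-b⁻¹)
  rw [show ((-b⁻¹)⁻¹ : Rˣ).1 = -(b : R) by simp, show -((-b⁻¹ : Rˣ) : R) = b⁻¹.1 by simp] at k1
  have k2 := hk (-(b⁻¹ * u))
  rw [show ((-(b⁻¹ * u))⁻¹ : Rˣ).1 = -((b : R) * u⁻¹.1) by simp [mul_comm],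
    show -((-(b⁻¹ * u) : Rˣ) : R) = b⁻¹.1 * u by simp] at k2
  rw [k1, k2]
  have e0 : a + b⁻¹.1 = b⁻¹.1 * u := by linear_combination -b⁻¹.1 * hu - a * Units.inv_mul b
  have e1 : P (b⁻¹.1 * u) * I (av u) = I (av u) * P (b⁻¹.1 * u⁻¹.1) := by
    rw [h1, hal, Units.val_mul]
    congr 2
    linear_combination -b⁻¹.1 * (u : R) * Units.mul_inv u
  calc P a * (P b⁻¹.1 * I (av (-b⁻¹)) * n * P b⁻¹.1)
      = P (b⁻¹.1 * u) * I (av (-b⁻¹)) * n * P b⁻¹.1 := by rw [← e0, hadd]; group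
    _ = P (b⁻¹.1 * u) * I (av (-(b⁻¹ * u)) * av u⁻¹) * n * P (b⁻¹.1 * u⁻¹.1 + a * u⁻¹.1) := by
        rw [← map_mul av, show -(b⁻¹ * u) * u⁻¹ = -b⁻¹ by rw [neg_mul, mul_inv_cancel_right]]
        congr 2
        linear_combination u⁻¹.1 * a * Units.inv_mul b + b⁻¹.1 * u⁻¹.1 * hu - b⁻¹.1 * Units.inv_mul u
    _ = P (b⁻¹.1 * u) * I (av (-(b⁻¹ * u))) * (n * I (av u)) * (P (b⁻¹.1 * u⁻¹.1) * P (a * u⁻¹.1)) := by
        rw [rel_n_av I al av n hal h2, map_mul I, hadd]; group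
    _ = P (b⁻¹.1 * u) * I (av (-(b⁻¹ * u))) * n * (I (av u) * P (b⁻¹.1 * u⁻¹.1)) * P (a * u⁻¹.1) := by group
    _ = _ := by rw [← e1]; group

include hadd hal h1 h2 hk in
theorem rel_rule_split (a b v : R) (hv : IsUnit v) (hv' : IsUnit (b - v)) (hw : IsUnit (1 + a * v)) (u : Rˣ)
    (hu : (u : R) = 1 + a * b) :
    P a * (n * P (-b) * n⁻¹) = n * P (-(b * u⁻¹.1)) * n⁻¹ * I (av u) * P (a * u⁻¹.1) := by
  obtain ⟨u₁, hu₁⟩ := hw
  have hu₂ : ((u * u₁⁻¹ : Rˣ) : R) = 1 + a * u₁⁻¹.1 * (b - v) := by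
    rw [Units.val_mul]
    linear_combination u₁⁻¹.1 * hu - u₁⁻¹.1 * hu₁ + Units.inv_mul u₁
  have hM : ∀ x y : R, n * P (-(x + y)) * n⁻¹ = (n * P (-x) * n⁻¹) * (n * P (-y) * n⁻¹) := fun x y => by
    rw [neg_add, hadd]; group
  have hMI : ∀ (z : Rˣ) (y : R), I (av z) * (n * P (-y) * n⁻¹) =
      (n * P (-(y * (z⁻¹ * z⁻¹ : Rˣ).1)) * n⁻¹) * I (av z) := fun z y => by
    have hn' : I (av z) * n = n * I (av z⁻¹) := by rw [rel_n_av I al av n hal h2, _root_.inv_inv]
    have hn'' : I (av z⁻¹) * n⁻¹ = n⁻¹ * I (av z) := by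
      rw [eq_inv_mul_iff_mul_eq, ← _root_.mul_assoc, ← hn', mul_inv_cancel_right]
    calc I (av z) * (n * P (-y) * n⁻¹) = (I (av z) * n) * P (-y) * n⁻¹ := by group
      _ = n * P (-(y * (z⁻¹ * z⁻¹ : Rˣ).1)) * (I (av z⁻¹) * n⁻¹) := by
        rw [hn', _root_.mul_assoc n, h1, hal, show ((z⁻¹ * z⁻¹ : Rˣ) : R) * -y = -(y * (z⁻¹ * z⁻¹ : Rˣ).1) by ring]
        group
      _ = _ := by rw [hn'']; group
  have hv₂ : IsUnit ((b - v) * 1) := by rwa [_root_.mul_one]
  calc P a * (n * P (-b) * n⁻¹)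
      = P a * (n * P (-v) * n⁻¹) * (n * P (-(b - v)) * n⁻¹) := by
        rw [_root_.mul_assoc (P a), ← hM, add_sub_cancel]
    _ = n * P (-(v * u₁⁻¹.1)) * n⁻¹ * I (av u₁) * (P (a * u₁⁻¹.1) * (n * P (-(b - v)) * n⁻¹)) := by
        rw [rel_rule_unit P I al av n hadd hal h1 h2 hk a v hv u₁ hu₁]; group
    _ = n * P (-(v * u₁⁻¹.1)) * n⁻¹ * (I (av u₁) * (n * P (-((b - v) * (u * u₁⁻¹)⁻¹.1)) * n⁻¹)) *
          I (av (u * u₁⁻¹)) * P (a * u₁⁻¹.1 * (u * u₁⁻¹)⁻¹.1) := by
        rw [rel_rule_unit P I al av n hadd hal h1 h2 hk _ (b - v) hv' _ hu₂]; group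
    _ = n * P (-(b * u⁻¹.1)) * n⁻¹ * (I (av u₁) * I (av (u * u₁⁻¹))) * P (a * u⁻¹.1) := by
        have eu : ((u * u₁⁻¹)⁻¹ : Rˣ).1 = u₁ * u⁻¹.1 := by rw [_root_.mul_inv_rev, _root_.inv_inv, Units.val_mul]
        rw [hMI, show b * u⁻¹.1 = v * u₁⁻¹.1 + (b - v) * (u * u₁⁻¹)⁻¹.1 * (u₁⁻¹ * u₁⁻¹ : Rˣ).1 by
            rw [eu, Units.val_mul]
            linear_combination -(b - v) * u⁻¹.1 * u₁⁻¹.1 * Units.mul_inv u₁ + b * u⁻¹.1 * (-Units.inv_mul u₁) +
              b * u⁻¹.1 * u₁⁻¹.1 * hu₁ - v * u⁻¹.1 * u₁⁻¹.1 * hu + v * u₁⁻¹.1 * Units.inv_mul u, hM,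
          eu, show a * u₁⁻¹.1 * ((u₁ : R) * u⁻¹.1) = a * u⁻¹.1 by
            linear_combination a * u⁻¹.1 * Units.inv_mul u₁]
        group
    _ = _ := by rw [← map_mul I, ← map_mul av, mul_comm u, mul_inv_cancel_left]

end Abstract

variable {S : Scheme.{u}}

/-- An additive map from the additive group is a homomorphism. -/
theorem isMonHom_of_additive {H : Over S} [GrpObj H] (φ : Red.Ga S ⟶ H)
    (hadd : ∀ (X : Over S) (x y : X ⟶ Red.Ga S), (x * y) ≫ φ = (x ≫ φ) * (y ≫ φ)) : IsMonHom φ where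
  one_hom := by
    have e := hadd (𝟙_ (Over S)) 1 1
    rw [_root_.one_mul, left_eq_mul] at e
    rwa [one_eq_one, one_eq_one]
  mul_hom := by
    rw [mul_eq_mul, mul_eq_mul, hadd, MonObj.comp_mul, tensorHom_fst, tensorHom_snd]

open Groth.Agent.GmTorsor in
/-- Fppf-locally a function splits as a sum of two units, one of them avoiding a third value. -/
theorem exists_three (X : Over S) (a b : Γ(X.left, ⊤)) :
    ∃ (X' : Over S) (f : X' ⟶ X), Epi f ∧ ∃ v : Γ(X'.left, ⊤), IsUnit v ∧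
      IsUnit (f.left.appTop b - v) ∧ IsUnit (1 + f.left.appTop a * v) := by
  let Z : Over S := Red.Ga S ⊗ X
  let v₀ : Γ(Z.left, ⊤) := Red.gaFn (fst (Red.Ga S) X)
  let p : Z ⟶ X := snd _ _
  let F : Γ(Z.left, ⊤) := v₀ * (p.left.appTop b - v₀) * (1 + p.left.appTop a * v₀)
  let W : Z.left.Opens := Z.left.basicOpen F
  let X' : Over S := Over.mk (W.ι ≫ Z.hom)
  let ιW : X' ⟶ Z := Over.homMk W.ι
  let f : X' ⟶ X := ιW ≫ p
  haveI : Flat p.left := MorphismProperty.pullback_snd _ _ inferInstance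
  haveI : Flat f.left := by
    show Flat (W.ι ≫ p.left)
    infer_instance
  haveI hs : Surjective f.left := by
    refine ⟨fun x => ?_⟩
    obtain ⟨K, _, _, P, φ, y, z, hz⟩ := exists_geomPt X x
    set a₀ := φ.symm (y.left.appTop a) with ha₀
    set b₀ := φ.symm (y.left.appTop b) with hb₀
    obtain ⟨k, hk⟩ := Set.Finite.exists_notMem (s := ({0, b₀, -a₀⁻¹} : Set K)) (Set.toFinite _)
    simp only [Set.mem_insert_iff, Set.mem_singleton_iff, not_or] at hk
    have hne : k * (b₀ - k) * (1 + a₀ * k) ≠ 0 := by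
      refine mul_ne_zero (mul_ne_zero hk.1 (sub_ne_zero.2 (Ne.symm hk.2.1))) fun h => hk.2.2 ?_
      have ha : a₀ ≠ 0 := fun h' => by simp [h'] at h
      field_simp
      linear_combination h
    let π : P ⟶ Z := lift (gp (φ k)) y
    have hv : π.left.appTop v₀ = φ k := by
      rw [← GaPoints.gaFn_comp, lift_fst, gaFn_gp]
    have hp : ∀ c, π.left.appTop (p.left.appTop c) = y.left.appTop c := fun c => by
      have : π ≫ p = y := lift_snd _ _
      rw [← this]
      rfl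
    have hu : IsUnit (π.left.appTop F) := by
      simp only [F, map_mul, map_sub, map_add, map_one, hv, hp]
      have h := (isUnit_iff_ne_zero.2 hne).map φ
      simpa only [map_mul, map_sub, map_add, map_one, ha₀, hb₀, RingEquiv.apply_symm_apply] using h
    have hm : π.left.base z ∈ W := by
      show z ∈ π.left ⁻¹ᵁ Z.left.basicOpen F
      rw [Scheme.preimage_basicOpen_top, Scheme.basicOpen_of_isUnit _ hu]
      trivial
    refine ⟨⟨π.left.base z, hm⟩, ?_⟩
    show (π ≫ p).left.base z = x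
    rw [lift_snd]
    exact hz
  haveI : Epi f.left := Flat.epi_of_flat_of_surjective f.left
  have hF : IsUnit (W.ι.appTop F) := isUnit_of_forall_mem_basicOpen _ fun w => by
    rw [← Scheme.preimage_basicOpen_top]
    exact w.2
  simp only [F, map_mul, IsUnit.mul_iff, map_sub, map_add, map_one] at hF
  exact ⟨X', f, (Over.forget S).epi_of_epi_map this, W.ι.appTop v₀, hF.1.1, hF.1.2, hF.2⟩

end Groth.Agent.RankOneCellLib
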