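import Groth.Agent.RankOneCellLib.Cover

/-!
# Shape of a quotient of two points of the big cell
-/

set_option autoImplicit false
set_option backward.isDefEq.respectTransparency false
set_option backward.isDefEq.respectTransparency.types false
set_option linter.style.haveILetI false

universe u

open CategoryTheory Limits MonoidalCategory CartesianMonoidalCategory MonObj GrpObj AlgebraicGeometry

noncomputable section

namespace Groth.Agent.RankOneCellLib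

variable {S : Scheme.{u}} {G T : Over S} [GrpObj G] [GrpObj T] {i : T ⟶ G} [IsMonHom i]
    {pp pm : Red.Ga S ⟶ G} [IsMonHom pp] [IsMonHom pm] {α : T ⟶ Red.Gm S}

theorem exists_swap (hpm : ∀ (X : Over S) (t : X ⟶ T) (y : X ⟶ Red.Ga S), ∃ y' : X ⟶ Red.Ga S,
      y' ≫ pm = (t ≫ i) * (y ≫ pm) * (t ≫ i)⁻¹ ∧ Red.gaFn y' * Red.gmFn (t ≫ α) = Red.gaFn y)
    {X : Over S} (t : X ⟶ T) (y : X ⟶ Red.Ga S) :
    ∃ y' : X ⟶ Red.Ga S, (y ≫ pm) * (t ≫ i) = (t ≫ i) * (y' ≫ pm) := by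
  obtain ⟨y', hy', -⟩ := hpm X t⁻¹ y
  refine ⟨y', ?_⟩
  rw [hy', GrpObj.inv_comp]
  group

variable [hΩ : IsOpenImmersion (cellMap i pp pm).left]

/-- Fppf-locally every point has the shape `p₊ · t · p₋ · p₊`. -/
theorem exists_cover_shape (hG : Red.IsReductive G)
    (hpm : ∀ (X : Over S) (t : X ⟶ T) (y : X ⟶ Red.Ga S), ∃ y' : X ⟶ Red.Ga S,
      y' ≫ pm = (t ≫ i) * (y ≫ pm) * (t ≫ i)⁻¹ ∧ Red.gaFn y' * Red.gmFn (t ≫ α) = Red.gaFn y)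
    {X : Over S} (g : X ⟶ G) :
    ∃ (X' : Over S) (f : X' ⟶ X), Epi f ∧ Surjective f.left ∧
      ∃ (b : X' ⟶ Red.Ga S) (t : X' ⟶ T) (e c : X' ⟶ Red.Ga S),
        f ≫ g = (b ≫ pp) * (t ≫ i) * (e ≫ pm) * (c ≫ pp) := by
  obtain ⟨X', f, hf, hfs, ω₁, ω₂, h₁, h₂, he⟩ := exists_cover i pp pm hG g
  obtain ⟨a₁, t₁, b₁, rfl⟩ := exists_of_inCell i pp pm h₁
  obtain ⟨a₂, t₂, b₂, rfl⟩ := exists_of_inCell i pp pm h₂
  obtain ⟨e, hee⟩ := exists_swap hpm t₂ (a₁⁻¹ * a₂)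
  refine ⟨X', f, hf, hfs, b₁⁻¹, t₁⁻¹ * t₂, e, b₂, ?_⟩
  rw [he, GrpObj.inv_comp, MonObj.mul_comp, GrpObj.inv_comp,
    mul_assoc ((b₁ ≫ pp)⁻¹), mul_assoc (t₁ ≫ i)⁻¹, ← hee, MonObj.mul_comp, GrpObj.inv_comp]
  group

end Groth.Agent.RankOneCellLib
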