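import Groth.Agent.RankOneCellLib.RootHom
import Groth.Agent.RankOneCellLib.Quot
import Groth.Agent.FpqcDesc.Stalk

/-!
# Homomorphisms of rank one systems
-/

set_option autoImplicit false
set_option backward.isDefEq.respectTransparency false
set_option backward.isDefEq.respectTransparency.types false
set_option linter.style.haveILetI false

universe u

open CategoryTheory Limits MonoidalCategory CartesianMonoidalCategory MonObj GrpObj AlgebraicGeometry TopologicalSpace

noncomputable section

namespace Groth.Agent.RankOneCellLib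

open Groth.Agent.RankOneRelLib

variable {S : Scheme.{u}}

theorem tensorHom_prop (P : MorphismProperty Scheme.{u}) [P.IsStableUnderBaseChange] [P.IsStableUnderComposition]
    {A B C D : Over S} (f : A ⟶ C) (g : B ⟶ D) (hf : P f.left) (hg : P g.left) : P (f ⊗ₘ g).left := by
  have h1 : IsPullback (f ▷ B).left (fst A B).left (fst C B).left f.left := by
    refine IsPullback.of_right ?_ (congrArg CommaMorphism.left (whiskerRight_fst f B)) (IsPullback.of_hasPullback C.hom B.hom).flip
    have e : (f ▷ B).left ≫ (snd C B).left = (snd A B).left := congrArg CommaMorphism.left (whiskerRight_snd f B)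
    show IsPullback ((f ▷ B).left ≫ (snd C B).left) _ _ (f.left ≫ C.hom)
    rw [e, Over.w f]
    exact (IsPullback.of_hasPullback A.hom B.hom).flip
  have h2 : IsPullback (C ◁ g).left (snd C B).left (snd C D).left g.left := by
    refine IsPullback.of_right ?_ (congrArg CommaMorphism.left (whiskerLeft_snd C g)) (IsPullback.of_hasPullback C.hom D.hom)
    have e : (C ◁ g).left ≫ (fst C D).left = (fst C B).left := congrArg CommaMorphism.left (whiskerLeft_fst C g)
    show IsPullback ((C ◁ g).left ≫ (fst C D).left) _ _ (g.left ≫ D.hom)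
    rw [e, Over.w g]
    exact IsPullback.of_hasPullback C.hom B.hom
  rw [MonoidalCategory.tensorHom_def, Over.comp_left]
  exact MorphismProperty.comp_mem P _ _ (MorphismProperty.of_isPullback h1.flip hf) (MorphismProperty.of_isPullback h2.flip hg)

variable {G T : Over S} [GrpObj G] [GrpObj T] (i : T ⟶ G) [IsMonHom i] (pp pm : Red.Ga S ⟶ G)
    [IsMonHom pp] [IsMonHom pm]

/-- Quotients of two points of the cell. -/
abbrev pairMap : Cl T ⊗ Cl T ⟶ G :=
  (fst (Cl T) (Cl T) ≫ cellMap i pp pm)⁻¹ * (snd (Cl T) (Cl T) ≫ cellMap i pp pm)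

variable [hΩ : IsOpenImmersion (cellMap i pp pm).left]

theorem flat_pairMap (hG : Red.IsReductive G) : Flat (pairMap i pp pm).left := by
  haveI := hG.2.1
  let e : G ⊗ G ≅ G ⊗ G :=
    ⟨lift (fst G G) ((fst G G)⁻¹ * snd G G), lift (fst G G) (fst G G * snd G G),
      by apply CartesianMonoidalCategory.hom_ext <;> simp [MonObj.comp_mul, GrpObj.comp_inv],
      by apply CartesianMonoidalCategory.hom_ext <;> simp [MonObj.comp_mul, GrpObj.comp_inv]⟩
  have he : pairMap i pp pm = (cellMap i pp pm ⊗ₘ cellMap i pp pm) ≫ e.hom ≫ snd G G := by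
    simp [e, pairMap, MonObj.comp_mul, GrpObj.comp_inv]
  rw [he, Over.comp_left, Over.comp_left]
  haveI : Flat (cellMap i pp pm ⊗ₘ cellMap i pp pm).left :=
    tensorHom_prop @Flat _ _ inferInstance inferInstance
  haveI : IsIso e.hom.left := ((Over.forget S).mapIso e).isIso_hom
  haveI : Flat (snd G G).left := inferInstanceAs (Flat (pullback.snd G.hom G.hom))
  infer_instance

theorem surjective_pairMap (hG : Red.IsReductive G) : Surjective (pairMap i pp pm).left := by
  obtain ⟨X', f, -, hs, ω₁, ω₂, h₁, h₂, he⟩ := exists_cover i pp pm hG (𝟙 G)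
  obtain ⟨a₁, t₁, b₁, rfl⟩ := exists_of_inCell i pp pm h₁
  obtain ⟨a₂, t₂, b₂, rfl⟩ := exists_of_inCell i pp pm h₂
  have e : lift (lift (lift a₁ t₁) b₁) (lift (lift a₂ t₂) b₂) ≫ pairMap i pp pm = f := by
    rw [Category.comp_id] at he
    simp only [pairMap, MonObj.comp_mul, GrpObj.comp_inv, lift_fst_assoc, lift_snd_assoc, lift_cellMap]
    exact he.symm
  rw [← e, Over.comp_left] at hs
  exact Surjective.of_comp (f := (lift (lift (lift a₁ t₁) b₁) (lift (lift a₂ t₂) b₂)).left) _

omit hΩ

/-- The reflection of a triple product of groups. -/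
def swapGen (A B : Over S) [GrpObj A] [GrpObj B] : (A ⊗ B) ⊗ A ≅ (A ⊗ B) ⊗ A where
  hom := lift (lift (snd _ _)⁻¹ (fst _ _ ≫ snd _ _)⁻¹) (fst _ _ ≫ fst _ _)⁻¹
  inv := lift (lift (snd _ _)⁻¹ (fst _ _ ≫ snd _ _)⁻¹) (fst _ _ ≫ fst _ _)⁻¹
  hom_inv_id := by
    apply CartesianMonoidalCategory.hom_ext
    · apply CartesianMonoidalCategory.hom_ext <;> simp [GrpObj.comp_inv]
    · simp [GrpObj.comp_inv]
  inv_hom_id := by
    apply CartesianMonoidalCategory.hom_ext
    · apply CartesianMonoidalCategory.hom_ext <;> simp [GrpObj.comp_inv]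
    · simp [GrpObj.comp_inv]

/-- The reflection of the source of the cell map. -/
def swapIso : Cl T ≅ Cl T := swapGen (Red.Ga S) T

theorem isOpenImmersion_swap [IsOpenImmersion (cellMap i pp pm).left] :
    IsOpenImmersion (cellMap i pm pp).left := by
  let ε : G ≅ G := ⟨(𝟙 G)⁻¹, (𝟙 G)⁻¹, by simp [GrpObj.comp_inv], by simp [GrpObj.comp_inv]⟩
  have h : cellMap i pm pp = (swapIso (T := T)).hom ≫ cellMap i pp pm ≫ ε.hom := by
    rw [show cellMap i pp pm ≫ ε.hom = (cellMap i pp pm)⁻¹ by simp [ε, GrpObj.comp_inv], GrpObj.comp_inv,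
      cellMap_eq i pp pm (swapIso (T := T)).hom,
      show cellMap i pm pp = 𝟙 (Cl T) ≫ cellMap i pm pp from (Category.id_comp _).symm, cellMap_eq i pm pp (𝟙 _)]
    simp only [swapIso, swapGen, lift_fst_assoc, lift_snd_assoc, GrpObj.inv_comp, Category.id_comp, _root_.mul_inv_rev,
      _root_.inv_inv, _root_.mul_assoc, Category.assoc]
  rw [h]
  simp only [Over.comp_left]
  haveI : IsIso (swapIso (T := T) (S := S)).hom.left := ((Over.forget S).mapIso (swapIso (T := T))).isIso_hom
  haveI : IsIso ε.hom.left := ((Over.forget S).mapIso ε).isIso_hom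
  infer_instance

end Groth.Agent.RankOneCellLib
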