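import Groth.Agent.RankOneCellLib.Morph

/-!
# Homomorphisms of rank one systems extending a homomorphism of tori
-/

set_option autoImplicit false
set_option backward.isDefEq.respectTransparency false
set_option backward.isDefEq.respectTransparency.types false
set_option linter.style.haveILetI false
set_option linter.unusedSectionVars false

universe u

open CategoryTheory Limits MonoidalCategory CartesianMonoidalCategory MonObj GrpObj AlgebraicGeometry TopologicalSpace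

noncomputable section

namespace Groth.Agent.RankOneCellLib

open Groth.Agent.RankOneRelLib

variable {S : Scheme.{u}}

theorem exists_unitVal_aux (R : Type u) [CommRing R] (X : Over S) (t : X.left ⟶ Spec (CommRingCat.of R))
    {p : Polynomial R} (hp : p.Monic) :
    ∃ (X' : Over S) (f : X' ⟶ X), Epi f ∧ Surjective f.left ∧
      ∃ m : Γ(X'.left, ⊤), IsUnit (p.eval₂ (GaPoints.ringMap (f.left ≫ t)) m) := by
  let B := Localization.Away p
  let jr : R →+* B := algebraMap R B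
  haveI : Flat (Spec.map (CommRingCat.ofHom jr)) := by
    rw [HasRingHomProperty.Spec_iff (P := @Flat), CommRingCat.hom_ofHom]
    show RingHom.Flat (algebraMap R B)
    rw [IsScalarTower.algebraMap_eq R (Polynomial R) B]
    exact RingHom.Flat.comp (RingHom.flat_algebraMap_iff.2 (Module.Flat.of_free))
      (RingHom.flat_algebraMap_iff.2 (IsLocalization.flat B (Submonoid.powers p)))
  haveI : Surjective (Spec.map (CommRingCat.ofHom jr)) := by
    refine ⟨fun q => ?_⟩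
    let K := AlgebraicClosure q.asIdeal.ResidueField
    let φ₀ := algebraMap R K
    obtain ⟨m, hm⟩ := Set.Finite.exists_notMem
      (s := {a : K | (p.map φ₀).IsRoot a}) (Polynomial.finite_setOfPred_isRoot (hp.map φ₀).ne_zero)
    have hu : IsUnit (Polynomial.eval₂RingHom φ₀ m p) := by
      refine isUnit_iff_ne_zero.2 fun h => hm ?_
      show (p.map φ₀).eval m = 0
      rw [Polynomial.eval_map]
      exact h
    let ψ : B →+* K := IsLocalization.Away.lift p hu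
    refine ⟨(⟨RingHom.ker ψ, RingHom.ker_isPrime ψ⟩ : PrimeSpectrum B), PrimeSpectrum.ext ?_⟩
    show (RingHom.ker ψ).comap jr = q.asIdeal
    have hc : ψ.comp jr = φ₀ := RingHom.ext fun z => by
      show ψ (algebraMap R B z) = φ₀ z
      rw [IsScalarTower.algebraMap_apply R (Polynomial R) B]
      show IsLocalization.Away.lift p hu _ = _
      rw [IsLocalization.Away.lift_eq]
      exact Polynomial.eval₂_C _ _
    rw [RingHom.comap_ker, hc]
    show RingHom.ker (algebraMap R K) = _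
    rw [IsScalarTower.algebraMap_eq R q.asIdeal.ResidueField K, RingHom.ker_comp_of_injective _
      (RingHom.injective _), Ideal.ker_algebraMap_residueField]
  let j := Spec.map (CommRingCat.ofHom jr)
  haveI : Flat (pullback.fst t j) := MorphismProperty.pullback_fst _ _ inferInstance
  haveI hs : Surjective (pullback.fst t j) := MorphismProperty.pullback_fst _ _ inferInstance
  let f : Over.mk (pullback.fst t j ≫ X.hom) ⟶ X := Over.homMk (pullback.fst t j)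
  haveI : Epi f.left := Flat.epi_of_flat_of_surjective (pullback.fst t j)
  let r : B →+* Γ(pullback t j, ⊤) := GaPoints.ringMap (R := CommRingCat.of B) (pullback.snd t j)
  refine ⟨_, f, (Over.forget S).epi_of_epi_map this, hs, r (algebraMap (Polynomial R) B Polynomial.X), ?_⟩
  have hc : r.comp jr = GaPoints.ringMap (pullback.fst t j ≫ t) := by
    refine RingHom.ext fun z => ?_
    rw [pullback.condition]
    exact (GaPoints.ringMap_comp_SpecMap (CommRingCat.ofHom jr) (pullback.snd t j) z).symm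
  have h : Polynomial.eval₂RingHom (GaPoints.ringMap (pullback.fst t j ≫ t)) (r (algebraMap (Polynomial R) B Polynomial.X)) =
      r.comp (algebraMap (Polynomial R) B) := by
    refine Polynomial.ringHom_ext (fun a => ?_) ?_
    · rw [← hc, Polynomial.coe_eval₂RingHom, Polynomial.eval₂_C]
      exact congrArg r (IsScalarTower.algebraMap_apply R (Polynomial R) B a)
    · rw [Polynomial.coe_eval₂RingHom, Polynomial.eval₂_X]
      rfl
  show IsUnit (Polynomial.eval₂RingHom (GaPoints.ringMap (pullback.fst t j ≫ t)) (r (algebraMap (Polynomial R) B Polynomial.X)) p)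
  rw [h]
  exact (IsLocalization.Away.algebraMap_isUnit (S := B) p).map r

/-- A monic polynomial takes a unit value after a faithfully flat cover. -/
theorem exists_unitVal' (X : Over S) {p : Polynomial Γ(X.left, ⊤)} (hp : p.Monic) :
    ∃ (X' : Over S) (f : X' ⟶ X), Epi f ∧ Surjective f.left ∧
      ∃ m : Γ(X'.left, ⊤), IsUnit (p.eval₂ f.left.appTop.hom m) := by
  obtain ⟨X', f, h1, h2, m, hm⟩ := exists_unitVal_aux Γ(X.left, ⊤) X X.left.toSpecΓ hp
  refine ⟨X', f, h1, h2, m, ?_⟩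
  have e : GaPoints.ringMap (f.left ≫ X.left.toSpecΓ) = f.left.appTop.hom := by
    refine RingHom.ext fun z => ?_
    simp only [GaPoints.ringMap, Scheme.Hom.comp_appTop, Scheme.toSpecΓ_appTop, Iso.inv_hom_id_assoc]
  rwa [← e]

theorem flat_surj_inv {A H : Over S} [GrpObj H] [IsCommMonObj H] (h : A ⟶ H) (hfl : Flat h.left)
    (hsu : Surjective h.left) : Flat (h⁻¹).left ∧ Surjective (h⁻¹).left := by
  let ε : H ≅ H := ⟨(𝟙 H)⁻¹, (𝟙 H)⁻¹, by simp [GrpObj.comp_inv], by simp [GrpObj.comp_inv]⟩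
  haveI : IsIso ε.hom.left := ((Over.forget S).mapIso ε).isIso_hom
  have e : h⁻¹ = h ≫ ε.hom := by simp [ε, GrpObj.comp_inv]
  rw [e, Over.comp_left]
  exact ⟨inferInstance, inferInstance⟩

variable {G T : Over S} [GrpObj G] [GrpObj T] {i : T ⟶ G} [IsMonHom i] {α : T ⟶ Red.Gm S} [IsMonHom α]
    {pp pm : Red.Ga S ⟶ G} [IsMonHom pp] [IsMonHom pm]
    {G' T' : Over S} [GrpObj G'] [GrpObj T'] {i' : T' ⟶ G'} [IsMonHom i'] {α' : T' ⟶ Red.Gm S} [IsMonHom α']
    {pp' pm' : Red.Ga S ⟶ G'} [IsMonHom pp'] [IsMonHom pm']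
    [hΩ : IsOpenImmersion (cellMap i pp pm).left] [hΩ' : IsOpenImmersion (cellMap i' pp' pm').left]
    {av : Red.Gm S ⟶ T} {av' : Red.Gm S ⟶ T'}
    (hT : Red.IsTorus T) (hT' : Red.IsTorus T') (hα : ∀ s : S, (Over.pullback (Red.geomPt s)).map α ≠ 1)
    (hpp : ∀ (X : Over S) (t : X ⟶ T) (x : X ⟶ Red.Ga S), ∃ x' : X ⟶ Red.Ga S,
      x' ≫ pp = (t ≫ i) * (x ≫ pp) * (t ≫ i)⁻¹ ∧ Red.gaFn x' = Red.gmFn (t ≫ α) * Red.gaFn x)
    (hpm : ∀ (X : Over S) (t : X ⟶ T) (y : X ⟶ Red.Ga S), ∃ y' : X ⟶ Red.Ga S,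
      y' ≫ pm = (t ≫ i) * (y ≫ pm) * (t ≫ i)⁻¹ ∧ Red.gaFn y' * Red.gmFn (t ≫ α) = Red.gaFn y)
    (hF : ∀ (X : Over S) (x y : X ⟶ Red.Ga S), IsUnit (1 + Red.gaFn x * Red.gaFn y) →
      ∃ (x' y' : X ⟶ Red.Ga S) (z : X ⟶ Red.Gm S), Red.gmFn z = 1 + Red.gaFn x * Red.gaFn y ∧
        Red.gaFn x' * Red.gmFn z = Red.gaFn x ∧ Red.gaFn y' * Red.gmFn z = Red.gaFn y ∧
        (x ≫ pp) * (y ≫ pm) = (y' ≫ pm) * (z ≫ av ≫ i) * (x' ≫ pp))
    (hpp' : ∀ (X : Over S) (t : X ⟶ T') (x : X ⟶ Red.Ga S), ∃ x' : X ⟶ Red.Ga S,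
      x' ≫ pp' = (t ≫ i') * (x ≫ pp') * (t ≫ i')⁻¹ ∧ Red.gaFn x' = Red.gmFn (t ≫ α') * Red.gaFn x)
    (hpm' : ∀ (X : Over S) (t : X ⟶ T') (y : X ⟶ Red.Ga S), ∃ y' : X ⟶ Red.Ga S,
      y' ≫ pm' = (t ≫ i') * (y ≫ pm') * (t ≫ i')⁻¹ ∧ Red.gaFn y' * Red.gmFn (t ≫ α') = Red.gaFn y)
    (hF' : ∀ (X : Over S) (x y : X ⟶ Red.Ga S), IsUnit (1 + Red.gaFn x * Red.gaFn y) →
      ∃ (x' y' : X ⟶ Red.Ga S) (z : X ⟶ Red.Gm S), Red.gmFn z = 1 + Red.gaFn x * Red.gaFn y ∧
        Red.gaFn x' * Red.gmFn z = Red.gaFn x ∧ Red.gaFn y' * Red.gmFn z = Red.gaFn y ∧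
        (x ≫ pp') * (y ≫ pm') = (y' ≫ pm') * (z ≫ av' ≫ i') * (x' ≫ pp'))
    (c : 𝟙_ (Over S) ⟶ Red.Gm S) (fT : T ⟶ T') [IsMonHom fT]
    (hfTα : fT ≫ α' = α) (hfTav : av ≫ fT = av') (f : G ⟶ G') [IsMonHom f] (hfT : i ≫ f = fT ≫ i')
    (hf : ∀ (X : Over S) (x y : X ⟶ Red.Ga S), Red.gaFn y = Red.gmFn (toUnit X ≫ c) * Red.gaFn x →
      (x ≫ pp) ≫ f = y ≫ pp')

/-- The unit by which the positive root group is rescaled, on a test object. -/
abbrev cU (X : Over S) : Γ(X.left, ⊤)ˣ := GmPts.unitOfPt (toUnit X ≫ c)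

theorem cU_comp {X X' : Over S} (g : X' ⟶ X) :
    g.left.appTop (cU c X : Γ(X.left, ⊤)) = (cU c X' : Γ(X'.left, ⊤)) := by
  show g.left.appTop (Red.gmFn (toUnit X ≫ c)) = Red.gmFn (toUnit X' ≫ c)
  rw [← GmPts.gmFn_comp, ← Category.assoc, comp_toUnit]

include hT' hα hT hpm hpm' hpp' hF hF' hfTα hfTav hfT hf in
/-- The negative root group is rescaled by the inverse unit. -/
theorem map_pm {X : Over S} (y : X ⟶ Red.Ga S) :
    (y ≫ pm) ≫ f = gp (((cU c X)⁻¹).1 * Red.gaFn y) ≫ pm' := by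
  haveI := isOpenImmersion_swap i' pp' pm'
  obtain ⟨hfl, hsu⟩ := flatSurj_of_geomFibre_ne_one hT α hα
  have hβ : fT ≫ α'⁻¹ = α⁻¹ := by
    rw [GrpObj.comp_inv, hfTα]
  obtain ⟨hfl', hsu'⟩ : Flat (fT ≫ α'⁻¹).left ∧ Surjective (fT ≫ α'⁻¹).left := by
    rw [hβ]
    exact flat_surj_inv α hfl hsu
  have hinv : ∀ {Y : Over S} (t : Y ⟶ T'), Red.gmFn (t ≫ α'⁻¹) * Red.gmFn (t ≫ α') = 1 := fun t => by
    rw [GrpObj.comp_inv]
    exact GmPts.gmFn_inv _
  obtain ⟨ν, hν, -⟩ := existsUnique_root (G := G') (T := T') (Q := T) (i := i') (j := fT) (α := α'⁻¹)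
    (pp := pm') (pm := pp') hT'
    (fun Y t x => by
      obtain ⟨x', h1, h2⟩ := hpm' Y t x
      refine ⟨x', h1, ?_⟩
      linear_combination Red.gmFn (t ≫ α'⁻¹) * h2 - Red.gaFn x' * hinv t)
    (fun Y t x => by
      obtain ⟨x', h1, h2⟩ := hpp' Y t x
      refine ⟨x', h1, ?_⟩
      linear_combination Red.gmFn (t ≫ α'⁻¹) * h2 + Red.gaFn x * hinv t)
    hfl' hsu' 1 (pm ≫ f) (fun Y t x x' hx => by
      obtain ⟨x'', h1, h2⟩ := hpm Y t x
      have hi : Red.gmFn (t ≫ fT ≫ α'⁻¹) * Red.gmFn (t ≫ α) = 1 := by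
        rw [← hfTα, ← Category.assoc, ← Category.assoc t fT α']
        exact hinv _
      have e : x' = x'' := GaPoints.gaFn_injective (by
        linear_combination hx + Red.gmFn (t ≫ fT ≫ α'⁻¹) * (-h2) + Red.gaFn x'' * hi)
      rw [e, pow_one, ← Category.assoc, h1, MonObj.mul_comp, MonObj.mul_comp, GrpObj.inv_comp]
      simp only [Category.assoc, hfT])
  -- the two coefficients are inverse to each other
  have key : ∀ (Z : Over S), Red.gaFn (toUnit Z ≫ ν) = ((cU c Z)⁻¹).1 := by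
    intro Z
    set k := (cU c Z : Γ(Z.left, ⊤)) * Red.gaFn (toUnit Z ≫ ν) with hk
    obtain ⟨Z', g, hg, -, m, hm⟩ := exists_unitVal' Z
      (p := Polynomial.X * (Polynomial.X + Polynomial.C 1) * (Polynomial.X + Polynomial.C k))
      ((Polynomial.monic_X.mul (Polynomial.monic_X_add_C 1)).mul (Polynomial.monic_X_add_C k))
    haveI := hg
    simp only [Polynomial.eval₂_mul, Polynomial.eval₂_add, Polynomial.eval₂_X, Polynomial.eval₂_C, map_one,
      Polynomial.eval₂_one, IsUnit.mul_iff] at hm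
    obtain ⟨⟨⟨m, rfl⟩, hm1⟩, hmk⟩ := hm
    set a := (m⁻¹).1 with ha
    have ha1 : IsUnit (1 + a) := by
      rw [show 1 + a = a * ((m : Γ(Z'.left, ⊤)) + 1) by linear_combination -(Units.inv_mul m)]
      exact (m⁻¹).isUnit.mul hm1
    have hak : IsUnit (1 + g.left.appTop k * a) := by
      rw [show 1 + g.left.appTop k * a = a * ((m : Γ(Z'.left, ⊤)) + g.left.appTop k) by
        linear_combination -(Units.inv_mul m)]
      exact (m⁻¹).isUnit.mul hmk
    obtain ⟨x', y', z, hz, hx', hy', hrule⟩ := hF Z' (gp 1) (gp a) (by rwa [gaFn_gp, gaFn_gp, _root_.one_mul])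
    rw [gaFn_gp, gaFn_gp, _root_.one_mul] at hz
    rw [gaFn_gp] at hx' hy'
    have hfp : ∀ (W : Over S) (x : W ⟶ Red.Ga S),
        (x ≫ pp) ≫ f = gp ((cU c W : Γ(W.left, ⊤)) * Red.gaFn x) ≫ pp' :=
      fun W x => hf W x _ (by rw [gaFn_gp]; rfl)
    have hfm : ∀ (W : Over S) (x : W ⟶ Red.Ga S),
        (x ≫ pm) ≫ f = gp (Red.gaFn (toUnit W ≫ ν) * Red.gaFn x) ≫ pm' := fun W x => by
      rw [Category.assoc]
      exact hν W x _ (by rw [gaFn_gp, pow_one])
    have h := congrArg (fun q => q ≫ f) hrule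
    simp only [MonObj.mul_comp] at h
    rw [hfp, hfp, hfm, hfm, gaFn_gp, gaFn_gp, _root_.mul_one] at h
    have hk' : g.left.appTop k = (cU c Z' : Γ(Z'.left, ⊤)) * Red.gaFn (toUnit Z' ≫ ν) := by
      rw [hk, map_mul, cU_comp c g, ← GaPoints.gaFn_comp, ← Category.assoc, comp_toUnit]
    obtain ⟨x₂, y₂, z₂, hz₂, hx₂, hy₂, hrule₂⟩ := hF' Z' (gp (cU c Z' : Γ(Z'.left, ⊤)))
      (gp (Red.gaFn (toUnit Z' ≫ ν) * a)) (by
        rw [gaFn_gp, gaFn_gp, ← _root_.mul_assoc, ← hk']; exact hak)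
    rw [gaFn_gp, gaFn_gp] at hz₂
    rw [gaFn_gp] at hx₂ hy₂
    rw [hrule₂] at h
    simp only [Category.assoc] at h
    rw [hfT, ← reassoc_of% hfTav] at h
    simp only [← Category.assoc] at h
    obtain ⟨-, -, h3⟩ := cell_inj i' pp' pm' h
    have h3' := congrArg Red.gaFn h3
    rw [gaFn_gp] at h3'
    rw [h3'] at hx₂
    have hzz : Red.gmFn z₂ = Red.gmFn z := by
      have e1 : Red.gaFn x' * Red.gmFn z₂ = 1 :=
        (cU c Z').isUnit.mul_left_cancel (by linear_combination hx₂)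
      linear_combination Red.gmFn z * e1 - Red.gmFn z₂ * hx'
    have hka : g.left.appTop k = 1 := by
      refine (m⁻¹).isUnit.mul_right_cancel ?_
      rw [_root_.one_mul, hk']
      linear_combination -hz₂ + hzz + hz
    have hk1 : k = 1 := by
      have e : gp (X := Z) k = gp 1 := (cancel_epi g).1 (by rw [comp_gp, comp_gp, hka, map_one])
      simpa [gaFn_gp] using congrArg Red.gaFn e
    exact Units.eq_inv_of_mul_eq_one_left (by rw [← hk1, hk])
  rw [Category.assoc]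
  exact hν X y _ (by rw [gaFn_gp, key, pow_one])

omit hΩ' in
include hT' hα hT hpm hpm' hpp' hF hF' hfTα hfTav hfT hf in
/-- The image of a point of the big cell. -/
theorem map_cell [IsOpenImmersion (cellMap i' pp' pm').left] {X : Over S} (a : X ⟶ Red.Ga S) (t : X ⟶ T)
    (b : X ⟶ Red.Ga S) :
    ((a ≫ pm) * (t ≫ i) * (b ≫ pp)) ≫ f = (gp (((cU c X)⁻¹).1 * Red.gaFn a) ≫ pm') * ((t ≫ fT) ≫ i') *
      (gp ((cU c X : Γ(X.left, ⊤)) * Red.gaFn b) ≫ pp') := by
  rw [MonObj.mul_comp, MonObj.mul_comp, map_pm hT hT' hα hpm hF hpp' hpm' hF' c fT hfTα hfTav f hfT hf a,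
    hf X b (gp ((cU c X : Γ(X.left, ⊤)) * Red.gaFn b)) (by rw [gaFn_gp]; rfl), Category.assoc t i f, hfT,
    Category.assoc]

include hT' hα hT hpp hpm hpm' hpp' hF hF' hfTα hfTav hfT hf in
/-- A point killed by `f` is a point of the kernel on the torus. -/
theorem torus_of_map_one (hG : Red.IsReductive G) {X : Over S} (g : X ⟶ G) (hg : g ≫ f = 1) :
    ∃ t : X ⟶ T, t ≫ i = g ∧ t ≫ fT = 1 := by
  have mapc : ∀ {W : Over S} (a : W ⟶ Red.Ga S) (t : W ⟶ T) (b : W ⟶ Red.Ga S),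
      ((a ≫ pm) * (t ≫ i) * (b ≫ pp)) ≫ f = (gp (((cU c W)⁻¹).1 * Red.gaFn a) ≫ pm') * ((t ≫ fT) ≫ i') *
        (gp ((cU c W : Γ(W.left, ⊤)) * Red.gaFn b) ≫ pp') :=
    fun a t b => map_cell hT hT' hα hpm hF hpp' hpm' hF' c fT hfTα hfTav f hfT hf a t b
  have hu : ∀ {W : Over S} (u : Γ(W.left, ⊤)ˣ) (a : W ⟶ Red.Ga S),
      gp ((u : Γ(W.left, ⊤)) * Red.gaFn a) = 1 → a = 1 := fun u a h => by
    have h' := congrArg Red.gaFn h
    rw [gaFn_gp, GaPoints.gaFn_one] at h'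
    exact GaPoints.gaFn_injective (by rw [GaPoints.gaFn_one]; exact (Units.mul_right_eq_zero u).1 h')
  have h111 : ∀ (W : Over S), (1 : W ⟶ G') =
      ((1 : W ⟶ Red.Ga S) ≫ pm') * ((1 : W ⟶ T') ≫ i') * ((1 : W ⟶ Red.Ga S) ≫ pp') := fun W => by
    rw [MonObj.one_comp, MonObj.one_comp, MonObj.one_comp, _root_.one_mul, _root_.one_mul]
  have hin : InCell i pp pm g := by
    obtain ⟨X', p, hp, hps, b, t, e, d, he⟩ := exists_cover_shape (pp := pp) (α := α) hG hpm g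
    refine inCell_of_cover i pp pm p ?_
    obtain ⟨e', he', -⟩ := hpm X' t e
    have h1 : p ≫ g = (b ≫ pp) * ((e' ≫ pm) * (t ≫ i) * (d ≫ pp)) := by
      rw [he, he']
      group
    have h2 : ((b ≫ pp) * ((e' ≫ pm) * (t ≫ i) * (d ≫ pp))) ≫ f = 1 := by
      rw [← h1, Category.assoc, hg, MonObj.comp_one]
    rw [MonObj.mul_comp, mapc] at h2
    have hb : (b ≫ pp) ≫ f = gp ((cU c X' : Γ(X'.left, ⊤)) * Red.gaFn b) ≫ pp' :=
      hf X' b _ (by rw [gaFn_gp]; rfl)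
    rw [hb, mul_eq_one_iff_inv_eq, ← GrpObj.inv_comp (gp ((cU c X' : Γ(X'.left, ⊤)) * Red.gaFn b)) pp',
      ← _root_.one_mul ((gp ((cU c X' : Γ(X'.left, ⊤)) * Red.gaFn b))⁻¹ ≫ pp')] at h2
    rw [show (1 : X' ⟶ G') = ((1 : X' ⟶ Red.Ga S) ≫ pm') * ((1 : X' ⟶ T') ≫ i') by
      rw [MonObj.one_comp, MonObj.one_comp, _root_.one_mul]] at h2
    obtain ⟨k1, -, -⟩ := cell_inj i' pp' pm' h2.symm
    have he1 : e' = 1 := hu _ _ k1
    obtain ⟨b', hb', -⟩ := hpp X' t⁻¹ b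
    have e3 : (b ≫ pp) * (t ≫ i) = (t ≫ i) * (b' ≫ pp) := by
      rw [hb', GrpObj.inv_comp]
      group
    rw [h1, he1, MonObj.one_comp, _root_.one_mul, ← _root_.mul_assoc, e3, _root_.mul_assoc, ← MonObj.mul_comp]
    have := inCell_cell i pp pm (1 : X' ⟶ Red.Ga S) t (b' * d)
    rwa [MonObj.one_comp, _root_.one_mul] at this
  obtain ⟨a, t, b, rfl⟩ := exists_of_inCell i pp pm hin
  rw [mapc, h111] at hg
  obtain ⟨k1, k2, k3⟩ := cell_inj i' pp' pm' hg
  exact ⟨t, by rw [hu _ _ k1, hu _ _ k3, MonObj.one_comp, MonObj.one_comp, _root_.one_mul, _root_.mul_one], k2⟩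

include hT' hα hT hpm hpm' hpp' hF hF' hfTα hfTav hfT hf in
/-- The homomorphism is faithfully flat as soon as it is so on the torus. -/
theorem flat_surjective_map (hG : Red.IsReductive G) (hG' : Red.IsReductive G') (hfl : Flat fT.left)
    (hsu : Surjective fT.left) : Flat f.left ∧ Surjective f.left := by
  let u₁ : Red.Ga S ⟶ Red.Ga S := gp (((cU c (Red.Ga S))⁻¹).1 * Red.gaFn (𝟙 (Red.Ga S)))
  let u₂ : Red.Ga S ⟶ Red.Ga S := gp ((cU c (Red.Ga S) : Γ((Red.Ga S).left, ⊤)) * Red.gaFn (𝟙 (Red.Ga S)))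
  have hu₂ : ∀ {W : Over S} (a : W ⟶ Red.Ga S), a ≫ u₂ = gp ((cU c W : Γ(W.left, ⊤)) * Red.gaFn a) := fun a => by
    rw [comp_gp, map_mul, cU_comp, ← GaPoints.gaFn_comp, Category.comp_id]
  have hu₁ : ∀ {W : Over S} (a : W ⟶ Red.Ga S), a ≫ u₁ = gp (((cU c W)⁻¹).1 * Red.gaFn a) := fun {W} a => by
    rw [comp_gp, map_mul, ← GaPoints.gaFn_comp, Category.comp_id]
    congr 2
    apply (cU c W).isUnit.mul_left_cancel
    rw [Units.mul_inv, ← cU_comp c a, ← map_mul, Units.mul_inv, map_one]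
  haveI : IsIso u₁ := ⟨u₂, by
      rw [hu₂, gaFn_gp, Units.mul_inv_cancel_left, gp_gaFn],
    by rw [hu₁, gaFn_gp, Units.inv_mul_cancel_left, gp_gaFn]⟩
  haveI : IsIso u₂ := ⟨u₁, by rw [hu₁, gaFn_gp, Units.inv_mul_cancel_left, gp_gaFn],
    by rw [hu₂, gaFn_gp, Units.mul_inv_cancel_left, gp_gaFn]⟩
  haveI : IsIso u₁.left := ((Over.forget S).mapIso (asIso u₁)).isIso_hom
  haveI : IsIso u₂.left := ((Over.forget S).mapIso (asIso u₂)).isIso_hom
  let φ : Cl T ⟶ Cl T' := (u₁ ⊗ₘ fT) ⊗ₘ u₂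
  have hφc : cellMap i pp pm ≫ f = φ ≫ cellMap i' pp' pm' := by
    rw [cellMap_eq i' pp' pm' φ, ← Category.id_comp (cellMap i pp pm), cellMap_eq i pp pm (𝟙 _)]
    have h := map_cell hT hT' hα hpm hF hpp' hpm' hF' c fT hfTα hfTav f hfT hf (fst _ _ ≫ fst _ _)
      (fst _ _ ≫ snd _ _) (snd (Red.Ga S ⊗ T) (Red.Ga S))
    rw [← hu₁, ← hu₂] at h
    simp only [φ, tensorHom_fst_assoc, tensorHom_snd_assoc, Category.id_comp]
    simpa only [Category.assoc, tensorHom_fst_assoc, tensorHom_snd_assoc] using h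
  have hpair : pairMap i pp pm ≫ f = (φ ⊗ₘ φ) ≫ pairMap i' pp' pm' := by
    simp only [pairMap, MonObj.mul_comp, MonObj.comp_mul, GrpObj.inv_comp, GrpObj.comp_inv, Category.assoc, hφc,
      tensorHom_fst_assoc, tensorHom_snd_assoc]
  haveI hφ : Flat φ.left ∧ Surjective φ.left :=
    ⟨tensorHom_prop @Flat _ _ (tensorHom_prop @Flat _ _ inferInstance hfl) inferInstance,
      tensorHom_prop @Surjective _ _ (tensorHom_prop @Surjective _ _ inferInstance hsu) inferInstance⟩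
  haveI : Flat (φ ⊗ₘ φ).left := tensorHom_prop @Flat _ _ hφ.1 hφ.1
  haveI : Surjective (φ ⊗ₘ φ).left := tensorHom_prop @Surjective _ _ hφ.2 hφ.2
  haveI := flat_pairMap i' pp' pm' hG'
  haveI := surjective_pairMap i' pp' pm' hG'
  haveI := flat_pairMap i pp pm hG
  haveI := surjective_pairMap i pp pm hG
  haveI : Flat ((pairMap i pp pm).left ≫ f.left) := by rw [← Over.comp_left, hpair, Over.comp_left]; infer_instance
  haveI : Surjective ((pairMap i pp pm).left ≫ f.left) := by rw [← Over.comp_left, hpair, Over.comp_left]; infer_instance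
  exact ⟨FlatDescStalk.flat_of_comp (pairMap i pp pm).left f.left, Surjective.of_comp (pairMap i pp pm).left f.left⟩

end Groth.Agent.RankOneCellLib
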