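import Groth.Agent.RankOneCellLib.Morph2
import Groth.Agent.RankOneCellLib.Centralizer

/-!
# Homomorphisms of rank one systems with a Frobenius twist
-/

set_option autoImplicit false
set_option backward.isDefEq.respectTransparency false
set_option backward.isDefEq.respectTransparency.types false
set_option linter.style.haveILetI false
set_option linter.unusedSectionVars false

universe u

open CategoryTheory Limits MonoidalCategory CartesianMonoidalCategory MonObj GrpObj AlgebraicGeometry TopologicalSpace

noncomputable section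

namespace Groth.Agent.RankOneCellLib

open Groth.Agent.RankOneRelLib

variable {S : Scheme.{u}}

theorem exists_unitVal_of_ne_zero (R : Type u) [CommRing R] (X : Over S) (t : X.left ⟶ Spec (CommRingCat.of R))
    {p : Polynomial R} (hp : ∀ (K : Type u) [Field K] (φ : R →+* K), p.map φ ≠ 0) :
    ∃ (X' : Over S) (f : X' ⟶ X), Epi f ∧ Surjective f.left ∧
      ∃ m : Γ(X'.left, ⊤), IsUnit (p.eval₂ (GaPoints.ringMap (f.left ≫ t)) m) := by
  let B := Localization.Away p
  let jr : R →+* B := algebraMap R B
  haveI : Flat (Spec.map (CommRingCat.ofHom jr)) := by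
    rw [HasRingHomProperty.Spec_iff (P := @Flat), CommRingCat.hom_ofHom]
    show RingHom.Flat (algebraMap R B)
    rw [IsScalarTower.algebraMap_eq R (Polynomial R) B]
    exact RingHom.Flat.comp (RingHom.flat_algebraMap_iff.2 (Module.Flat.of_free))
      (RingHom.flat_algebraMap_iff.2 (IsLocalization.flat B (Submonoid.powers p)))
  haveI : Surjective (Spec.map (CommRingCat.ofHom jr)) := by
    refine ⟨fun q => ?_⟩
    let K := AlgebraicClosure q.asIdeal.ResidueField
    let φ₀ := algebraMap R K
    obtain ⟨m, hm⟩ := Set.Finite.exists_notMem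
      (s := {a : K | (p.map φ₀).IsRoot a}) (Polynomial.finite_setOfPred_isRoot (hp K φ₀))
    have hu : IsUnit (Polynomial.eval₂RingHom φ₀ m p) := by
      refine isUnit_iff_ne_zero.2 fun h => hm ?_
      show (p.map φ₀).eval m = 0
      rw [Polynomial.eval_map]
      exact h
    let ψ : B →+* K := IsLocalization.Away.lift p hu
    refine ⟨(⟨RingHom.ker ψ, RingHom.ker_isPrime ψ⟩ : PrimeSpectrum B), PrimeSpectrum.ext ?_⟩
    show (RingHom.ker ψ).comap jr = q.asIdeal
    have hc : ψ.comp jr = φ₀ := RingHom.ext fun z => by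
      show ψ (algebraMap R B z) = φ₀ z
      rw [IsScalarTower.algebraMap_apply R (Polynomial R) B]
      show IsLocalization.Away.lift p hu _ = _
      rw [IsLocalization.Away.lift_eq]
      exact Polynomial.eval₂_C _ _
    rw [RingHom.comap_ker, hc]
    show RingHom.ker (algebraMap R K) = _
    rw [IsScalarTower.algebraMap_eq R q.asIdeal.ResidueField K, RingHom.ker_comp_of_injective _
      (RingHom.injective _), Ideal.ker_algebraMap_residueField]
  let j := Spec.map (CommRingCat.ofHom jr)
  haveI : Flat (pullback.fst t j) := MorphismProperty.pullback_fst _ _ inferInstance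
  haveI hs : Surjective (pullback.fst t j) := MorphismProperty.pullback_fst _ _ inferInstance
  let f : Over.mk (pullback.fst t j ≫ X.hom) ⟶ X := Over.homMk (pullback.fst t j)
  haveI : Epi f.left := Flat.epi_of_flat_of_surjective (pullback.fst t j)
  let r : B →+* Γ(pullback t j, ⊤) := GaPoints.ringMap (R := CommRingCat.of B) (pullback.snd t j)
  refine ⟨_, f, (Over.forget S).epi_of_epi_map this, hs, r (algebraMap (Polynomial R) B Polynomial.X), ?_⟩
  have hc : r.comp jr = GaPoints.ringMap (pullback.fst t j ≫ t) := by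
    refine RingHom.ext fun z => ?_
    rw [pullback.condition]
    exact (GaPoints.ringMap_comp_SpecMap (CommRingCat.ofHom jr) (pullback.snd t j) z).symm
  have h : Polynomial.eval₂RingHom (GaPoints.ringMap (pullback.fst t j ≫ t)) (r (algebraMap (Polynomial R) B Polynomial.X)) =
      r.comp (algebraMap (Polynomial R) B) := by
    refine Polynomial.ringHom_ext (fun a => ?_) ?_
    · rw [← hc, Polynomial.coe_eval₂RingHom, Polynomial.eval₂_C]
      exact congrArg r (IsScalarTower.algebraMap_apply R (Polynomial R) B a)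
    · rw [Polynomial.coe_eval₂RingHom, Polynomial.eval₂_X]
      rfl
  show IsUnit (Polynomial.eval₂RingHom (GaPoints.ringMap (pullback.fst t j ≫ t)) (r (algebraMap (Polynomial R) B Polynomial.X)) p)
  rw [h]
  exact (IsLocalization.Away.algebraMap_isUnit (S := B) p).map r

/-- A polynomial nonzero on every fibre takes a unit value after a faithfully flat cover. -/
theorem exists_unitVal'' (X : Over S) {p : Polynomial Γ(X.left, ⊤)}
    (hp : ∀ (K : Type u) [Field K] (φ : Γ(X.left, ⊤) →+* K), p.map φ ≠ 0) :
    ∃ (X' : Over S) (f : X' ⟶ X), Epi f ∧ Surjective f.left ∧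
      ∃ m : Γ(X'.left, ⊤), IsUnit (p.eval₂ f.left.appTop.hom m) := by
  obtain ⟨X', f, h1, h2, m, hm⟩ := exists_unitVal_of_ne_zero Γ(X.left, ⊤) X X.left.toSpecΓ hp
  refine ⟨X', f, h1, h2, m, ?_⟩
  have e : GaPoints.ringMap (f.left ≫ X.left.toSpecΓ) = f.left.appTop.hom := by
    refine RingHom.ext fun z => ?_
    simp only [GaPoints.ringMap, Scheme.Hom.comp_appTop, Scheme.toSpecΓ_appTop, Iso.inv_hom_id_assoc]
  rwa [← e]

theorem exists_pow_ne_one {K : Type u} [Field K] [IsAlgClosed K] {R : Type u} [CommRing R] (φ : K ≃+* R) {n : ℕ}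
    (hn : n ≠ 0) : ∃ v : Rˣ, (v : R) ^ n ≠ 1 := by
  obtain ⟨a, ha⟩ := Set.Finite.exists_notMem (s := insert 0 {a : K | (Polynomial.X ^ n - 1 : Polynomial K).IsRoot a})
    ((Polynomial.finite_setOfPred_isRoot (Polynomial.monic_X_pow_sub_C 1 hn).ne_zero).insert 0)
  simp only [Set.mem_insert_iff, not_or] at ha
  refine ⟨Units.map φ.toMonoidHom (Units.mk0 a ha.1), fun h => ha.2 ?_⟩
  show (Polynomial.X ^ n - 1 : Polynomial K).eval a = 0
  rw [Polynomial.eval_sub, Polynomial.eval_pow, Polynomial.eval_X, Polynomial.eval_one, sub_eq_zero]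
  refine φ.injective ?_
  rw [map_pow, map_one]
  exact h

theorem fst_comp_eq_one {A H : Over S} [GrpObj H] (β : A ⟶ H) {S' : Scheme.{u}} (g : S' ⟶ S)
    (h : (Over.pullback g).map β = 1) : pullback.fst A.hom g ≫ β.left = pullback.fst A.hom g ≫ (1 : A ⟶ H).left := by
  have h1 : (Over.pullback g).map (1 : A ⟶ H) = 1 := Functor.map_one _
  rw [← h1, ← (Over.mapPullbackAdj g).homEquiv _ _ |>.symm.injective.eq_iff (a := (Over.pullback g).map β)] at h
  simp only [Adjunction.homEquiv_counit] at h
  have hn : ∀ β : A ⟶ H, (Over.map g).map ((Over.pullback g).map β) ≫ (Over.mapPullbackAdj g).counit.app H =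
      (Over.mapPullbackAdj g).counit.app A ≫ β := fun β => (Over.mapPullbackAdj g).counit.naturality β
  rw [hn, hn] at h
  exact congrArg CommaMorphism.left h

/-- The powers of a faithfully flat character are nontrivial on every geometric fibre. -/
theorem pow_char_ne_one {T : Over S} [GrpObj T] (α : T ⟶ Red.Gm S) [IsMonHom α] (hfl : Flat α.left)
    (hsu : Surjective α.left) {n : ℕ} (hn : n ≠ 0) (s : S) :
    (Over.pullback (Red.geomPt s)).map (α ^ n) ≠ 1 := by
  intro h
  replace h := fst_comp_eq_one (α ^ n) _ h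
  let P : Over S := Over.mk (Red.geomPt s)
  obtain ⟨v, hv⟩ := exists_pow_ne_one (K := AlgebraicClosure (S.residueField s)) (R := Γ(P.left, ⊤))
    (Scheme.ΓSpecIso (CommRingCat.of (AlgebraicClosure (S.residueField s)))).commRingCatIsoToRingEquiv.symm hn
  obtain ⟨X', f, τ, hf, -, hτ⟩ := exists_cover_char α hfl hsu v
  haveI := hf
  have h1 : τ ≫ α ^ n = 1 := by
    rw [← MonObj.comp_one τ]
    apply Over.OverMorphism.ext
    have := congrArg (fun m => pullback.lift τ.left f.left ((Over.w τ).trans (Over.w f).symm) ≫ m) h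
    exact (pullback.lift_fst_assoc _ _ _ _).symm.trans (this.trans (pullback.lift_fst_assoc _ _ _ _))
  refine hv ?_
  have h2 : f.left.appTop ((v : Γ(P.left, ⊤)) ^ n) = 1 := by
    rw [map_pow, ← hτ, ← gmFn_pow, ← MonObj.comp_pow, h1, GmPts.gmFn_one]
  have e : gp (X := P) ((v : Γ(P.left, ⊤)) ^ n) = gp 1 := (cancel_epi f).1 (by rw [comp_gp, comp_gp, h2, map_one])
  simpa [gaFn_gp] using congrArg Red.gaFn e

end Groth.Agent.RankOneCellLib
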