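import Groth.Agent.RankOneCellLib.Morph3

/-!
# Homomorphisms of rank one systems determined by the coroot
-/

set_option autoImplicit false
set_option backward.isDefEq.respectTransparency false
set_option backward.isDefEq.respectTransparency.types false
set_option linter.style.haveILetI false
set_option linter.unusedSectionVars false

universe u

open CategoryTheory Limits MonoidalCategory CartesianMonoidalCategory MonObj GrpObj AlgebraicGeometry TopologicalSpace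

noncomputable section

namespace Groth.Agent.RankOneCellLib

open Groth.Agent.RankOneRelLib

variable {S : Scheme.{u}}

theorem isMonHom_pow {A H : Over S} [GrpObj A] [GrpObj H] [IsCommMonObj H] (h : A ⟶ H) [IsMonHom h] (n : ℕ) :
    IsMonHom (h ^ n) := by
  induction n with
  | zero =>
    rw [pow_zero, Hom.one_def]
    infer_instance
  | succ n ih =>
    haveI := ih
    rw [pow_succ, Hom.mul_def]
    infer_instance

theorem flat_surj_pow {T : Over S} [GrpObj T] (hT : Red.IsTorus T) (α : T ⟶ Red.Gm S) [IsMonHom α]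
    (hα : ∀ s : S, (Over.pullback (Red.geomPt s)).map α ≠ 1) {n : ℕ} (hn : n ≠ 0) :
    Flat ((𝟙 (Red.Gm S)) ^ n).left ∧ Surjective ((𝟙 (Red.Gm S)) ^ n).left := by
  obtain ⟨hfl, hsu⟩ := flatSurj_of_geomFibre_ne_one hT α hα
  haveI := isMonHom_pow α n
  obtain ⟨h1, h2⟩ := flatSurj_of_geomFibre_ne_one hT (α ^ n) (pow_char_ne_one α hfl hsu hn)
  have e : α ^ n = α ≫ (𝟙 (Red.Gm S)) ^ n := by rw [MonObj.comp_pow, Category.comp_id]
  rw [e, Over.comp_left] at h1 h2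
  haveI := hfl
  haveI := hsu
  haveI := h1
  haveI := h2
  exact ⟨FlatDescStalk.flat_of_comp α.left _, Surjective.of_comp α.left _⟩

variable {G T : Over S} [GrpObj G] [GrpObj T] {i : T ⟶ G} [IsMonHom i] {α : T ⟶ Red.Gm S} [IsMonHom α]
    {pp pm : Red.Ga S ⟶ G}
    {G' T' : Over S} [GrpObj G'] [GrpObj T'] {i' : T' ⟶ G'} [IsMonHom i'] {α' : T' ⟶ Red.Gm S} [IsMonHom α']
    {pp' pm' : Red.Ga S ⟶ G'} [IsMonHom pp'] [IsMonHom pm']
    [hΩ' : IsOpenImmersion (cellMap i' pp' pm').left]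
    {av : Red.Gm S ⟶ T} {av' : Red.Gm S ⟶ T'}

/-- The coefficients of the two root groups are inverse to each other. -/
theorem root_coeff_inv (h2' : av' ≫ α' = (𝟙 (Red.Gm S)) ^ 2)
    (hF : ∀ (X : Over S) (x y : X ⟶ Red.Ga S), IsUnit (1 + Red.gaFn x * Red.gaFn y) →
      ∃ (x' y' : X ⟶ Red.Ga S) (z : X ⟶ Red.Gm S), Red.gmFn z = 1 + Red.gaFn x * Red.gaFn y ∧
        Red.gaFn x' * Red.gmFn z = Red.gaFn x ∧ Red.gaFn y' * Red.gmFn z = Red.gaFn y ∧
        (x ≫ pp) * (y ≫ pm) = (y' ≫ pm) * (z ≫ av ≫ i) * (x' ≫ pp))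
    (hF' : ∀ (X : Over S) (x y : X ⟶ Red.Ga S), IsUnit (1 + Red.gaFn x * Red.gaFn y) →
      ∃ (x' y' : X ⟶ Red.Ga S) (z : X ⟶ Red.Gm S), Red.gmFn z = 1 + Red.gaFn x * Red.gaFn y ∧
        Red.gaFn x' * Red.gmFn z = Red.gaFn x ∧ Red.gaFn y' * Red.gmFn z = Red.gaFn y ∧
        (x ≫ pp') * (y ≫ pm') = (y' ≫ pm') * (z ≫ av' ≫ i') * (x' ≫ pp'))
    {q : ℕ} (hq0 : 0 < q) (hq : ∀ (X : Over S) (a b : Γ(X.left, ⊤)), (a + b) ^ q = a ^ q + b ^ q)
    (f : G ⟶ G') [IsMonHom f] (ν μ' : 𝟙_ (Over S) ⟶ Red.Ga S)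
    (hfp : ∀ (W : Over S) (x : W ⟶ Red.Ga S),
      (x ≫ pp) ≫ f = gp (Red.gaFn (toUnit W ≫ ν) * Red.gaFn x ^ q) ≫ pp')
    (hfm : ∀ (W : Over S) (x : W ⟶ Red.Ga S),
      (x ≫ pm) ≫ f = gp (Red.gaFn (toUnit W ≫ μ') * Red.gaFn x ^ q) ≫ pm')
    (hav : ∀ (X : Over S) (z : X ⟶ Red.Gm S), (z ≫ av ≫ i) ≫ f = ((z ≫ av') ^ q) ≫ i') :
    Red.gaFn ν * Red.gaFn μ' = 1 := by
  set k := Red.gaFn ν * Red.gaFn μ' with hk
  obtain ⟨Z', g, hg, -, a, ha⟩ := exists_unitVal'' (𝟙_ (Over S))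
    (p := Polynomial.X * (1 + Polynomial.X) * (1 + Polynomial.C k * Polynomial.X ^ q) *
      (2 + Polynomial.X ^ q)) (fun K _ φ => by
      simp only [Polynomial.map_mul, Polynomial.map_add, Polynomial.map_pow, Polynomial.map_X,
        Polynomial.map_one, Polynomial.map_C, Polynomial.map_ofNat]
      refine mul_ne_zero (mul_ne_zero (mul_ne_zero Polynomial.X_ne_zero ?_) ?_) ?_ <;> intro h0
      · simpa using congrArg (fun r : Polynomial K => r.coeff 0) h0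
      · simpa [hq0.ne, hq0.ne'] using congrArg (fun r : Polynomial K => r.coeff 0) h0
      · rw [add_comm, show (2 : Polynomial K) = Polynomial.C 2 from (map_ofNat Polynomial.C 2).symm] at h0
        exact (Polynomial.monic_X_pow_add_C (2 : K) hq0.ne').ne_zero h0)
  haveI := hg
  simp only [Polynomial.eval₂_mul, Polynomial.eval₂_add, Polynomial.eval₂_X, Polynomial.eval₂_C,
    Polynomial.eval₂_one, Polynomial.eval₂_pow, Polynomial.eval₂_ofNat, IsUnit.mul_iff] at ha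
  obtain ⟨⟨⟨ha0, ha1⟩, hak⟩, ha2⟩ := ha
  set N := Red.gaFn (toUnit Z' ≫ ν) with hN
  set M := Red.gaFn (toUnit Z' ≫ μ') with hM
  have hk' : g.left.appTop k = N * M := by
    rw [hk, map_mul, ← GaPoints.gaFn_comp, ← GaPoints.gaFn_comp, hN, hM, toUnit_unique g (toUnit Z')]
  change IsUnit (1 + g.left.appTop k * a ^ q) at hak
  rw [hk'] at hak
  obtain ⟨x', y', z, hz, hx', hy', hrule⟩ := hF Z' (gp 1) (gp a) (by rwa [gaFn_gp, gaFn_gp, _root_.one_mul])
  rw [gaFn_gp, gaFn_gp, _root_.one_mul] at hz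
  rw [gaFn_gp] at hx' hy'
  have h := congrArg (fun r => r ≫ f) hrule
  simp only [MonObj.mul_comp] at h
  rw [hfp, hfp, hfm, hfm, gaFn_gp, gaFn_gp, one_pow, _root_.mul_one] at h
  obtain ⟨x₂, y₂, z₂, hz₂, hx₂, hy₂, hrule₂⟩ := hF' Z' (gp N) (gp (M * a ^ q)) (by
    rw [gaFn_gp, gaFn_gp, ← _root_.mul_assoc]; exact hak)
  rw [gaFn_gp, gaFn_gp] at hz₂
  rw [gaFn_gp] at hx₂ hy₂
  rw [hrule₂] at h
  rw [hav] at h
  simp only [← Category.assoc] at h
  obtain ⟨-, h2t, h3⟩ := cell_inj i' pp' pm' h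
  rw [h3, gaFn_gp] at hx₂
  have hw : Red.gmFn z₂ * Red.gmFn z₂ = Red.gmFn z ^ q * Red.gmFn z ^ q := by
    have e := congrArg (fun r : Z' ⟶ T' => Red.gmFn (r ≫ α')) h2t
    simp only [MonObj.comp_pow, MonObj.pow_comp, gmFn_pow, Category.assoc, h2', Category.comp_id] at e
    rw [← sq, e]
    ring
  have hzq : Red.gmFn z ^ q = 1 + a ^ q := by rw [hz, hq, one_pow]
  have hxq : Red.gaFn x' ^ q * Red.gmFn z ^ q = 1 := by rw [← mul_pow, hx', one_pow]
  -- N (z₂ - z^q) = 0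
  have hd : N * (Red.gmFn z₂ - Red.gmFn z ^ q) = 0 := by
    linear_combination Red.gmFn z ^ q * hx₂ - N * Red.gmFn z₂ * hxq
  have e1 : (N * M) * a ^ q * (N * M - 1) = 0 := by
    linear_combination M * hd + M * N * hzq - M * N * hz₂
  have e2 : (N * M - 1) * (2 + (N * M + 1) * a ^ q) * a ^ q = 0 := by
    linear_combination hw - (Red.gmFn z₂ + 1 + N * M * a ^ q) * hz₂ + (Red.gmFn z ^ q + 1 + a ^ q) * hzq
  have e3 : g.left.appTop k = 1 := by
    rw [hk']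
    refine (ha2.mul (ha0.pow q)).mul_left_cancel ?_
    linear_combination e2 - a ^ q * e1
  have e : gp (X := 𝟙_ (Over S)) k = gp 1 := (cancel_epi g).1 (by rw [comp_gp, comp_gp, e3, map_one])
  simpa [gaFn_gp] using congrArg Red.gaFn e

end Groth.Agent.RankOneCellLib
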