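import Groth.Agent.RankOneCellLib.Centralizer

/-!
# Points inverting a multiple of the coroot
-/

set_option autoImplicit false
set_option backward.isDefEq.respectTransparency false
set_option backward.isDefEq.respectTransparency.types false
set_option linter.style.haveILetI false

universe u v w

open CategoryTheory Limits MonoidalCategory CartesianMonoidalCategory MonObj GrpObj AlgebraicGeometry

noncomputable section

namespace Groth.Agent.RankOneCellLib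

open Groth.Agent.RankOneRelLib

variable {S : Scheme.{u}} {G T : Over S} [GrpObj G] [GrpObj T] {i : T ⟶ G} [IsMonHom i]
    {α : T ⟶ Red.Gm S} [IsMonHom α] {pp pm : Red.Ga S ⟶ G} [IsMonHom pp] [IsMonHom pm]
    {av : Red.Gm S ⟶ T} [IsMonHom av] [hΩ : IsOpenImmersion (cellMap i pp pm).left]
    (hG : Red.IsReductive G) (hT : Red.IsTorus T)
    (hpp : ∀ (X : Over S) (t : X ⟶ T) (x : X ⟶ Red.Ga S), ∃ x' : X ⟶ Red.Ga S,
      x' ≫ pp = (t ≫ i) * (x ≫ pp) * (t ≫ i)⁻¹ ∧ Red.gaFn x' = Red.gmFn (t ≫ α) * Red.gaFn x)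
    (hpm : ∀ (X : Over S) (t : X ⟶ T) (y : X ⟶ Red.Ga S), ∃ y' : X ⟶ Red.Ga S,
      y' ≫ pm = (t ≫ i) * (y ≫ pm) * (t ≫ i)⁻¹ ∧ Red.gaFn y' * Red.gmFn (t ≫ α) = Red.gaFn y)
    (h2 : av ≫ α = (𝟙 (Red.Gm S)) ^ 2)
    (hF : ∀ (X : Over S) (x y : X ⟶ Red.Ga S), IsUnit (1 + Red.gaFn x * Red.gaFn y) →
      ∃ (x' y' : X ⟶ Red.Ga S) (z : X ⟶ Red.Gm S), Red.gmFn z = 1 + Red.gaFn x * Red.gaFn y ∧
        Red.gaFn x' * Red.gmFn z = Red.gaFn x ∧ Red.gaFn y' * Red.gmFn z = Red.gaFn y ∧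
        (x ≫ pp) * (y ≫ pm) = (y' ≫ pm) * (z ≫ av ≫ i) * (x' ≫ pp))

/-- The Weyl element with coordinates `1`, `-1`. -/
abbrev weyl1 : 𝟙_ (Over S) ⟶ G := (gp 1 ≫ pp) * (gp (-1) ≫ pm) * (gp 1 ≫ pp)

include hG hT hpp hpm h2 hF in
/-- A point inverting a nonzero multiple of the coroot is a torus point times the Weyl element. -/
theorem exists_torus_mul_weyl {n : ℤ} (hn : n ≠ 0) (w : 𝟙_ (Over S) ⟶ G)
    (hw : ∀ (X : Over S) (z : X ⟶ Red.Gm S),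
      (toUnit X ≫ w) * (((z ≫ av) ^ n) ≫ i) * (toUnit X ≫ w)⁻¹ = ((((z ≫ av) ^ n) ≫ i))⁻¹) :
    ∃ t₁ : 𝟙_ (Over S) ⟶ T, w = (t₁ ≫ i) * weyl1 (pp := pp) (pm := pm) := by
  let w₀ : 𝟙_ (Over S) ⟶ G := weyl1 (pp := pp) (pm := pm)
  have hw₀ : ∀ (X : Over S), toUnit X ≫ w₀ = (sys hpp hpm h2 hF X).w 1 (-1) := fun X => by
    show toUnit X ≫ ((gp 1 ≫ pp) * (gp (-1) ≫ pm) * (gp 1 ≫ pp)) = (gp 1 ≫ pp) * (gp (-1) ≫ pm) * (gp 1 ≫ pp)
    simp only [MonObj.comp_mul, ← Category.assoc, comp_gp, map_neg, map_one]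
  have hconjT : ∀ (X : Over S) (t : X ⟶ T), (toUnit X ≫ w₀) * (t ≫ i) * (toUnit X ≫ w₀)⁻¹ =
      (t ≫ α ≫ av ≫ i)⁻¹ * (t ≫ i) := fun X t => by
    rw [hw₀]
    refine ((sys hpp hpm h2 hF X).w_conj_torus 1 (-1) (by rw [_root_.mul_one]) t).trans ?_
    rw [sys_I hpp hpm h2 hF, sys_I hpp hpm h2 hF, sys_al hpp hpm h2 hF, sys_av hpp hpm h2 hF]
    simp only [Category.assoc]
  obtain ⟨t₀, ht₀⟩ : ∃ t₀ : 𝟙_ (Over S) ⟶ T, t₀ ≫ i = w * w₀ := by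
    refine exists_torus_of_commute hG hT hpp hpm h2 hF hn (w * w₀) fun X y z => ?_
    rw [toUnit_unique y (toUnit X), MonObj.comp_mul]
    set C := (z ≫ av) ^ n with hC
    have h0 : (toUnit X ≫ w₀) * (C ≫ i) * (toUnit X ≫ w₀)⁻¹ = (C ≫ i)⁻¹ := by
      have e : C ≫ α ≫ av = C * C := by
        let σ := sys hpp hpm h2 hF X
        have ez : z ≫ av = σ.av (GmPts.unitOfPt z) := (sys_av hpp hpm h2 hF z).symm
        have h3 : σ.av (σ.al C) = C * C := by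
          rw [hC, ez, map_zpow, σ.al_av, map_zpow, map_mul, (Commute.refl _).mul_zpow]
        rw [sys_al hpp hpm h2 hF, sys_av hpp hpm h2 hF, Category.assoc] at h3
        exact h3
      rw [hconjT, ← Category.assoc, ← Category.assoc, Category.assoc C α, e, MonObj.mul_comp]
      group
    have hw' := hw X z
    rw [← hC] at hw'
    have h4 : (toUnit X ≫ w) * (C ≫ i)⁻¹ * (toUnit X ≫ w)⁻¹ = C ≫ i := by
      have := congrArg (·⁻¹) hw'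
      simpa [_root_.mul_assoc] using this
    calc (toUnit X ≫ w) * (toUnit X ≫ w₀) * (C ≫ i)
        = (toUnit X ≫ w) * ((toUnit X ≫ w₀) * (C ≫ i) * (toUnit X ≫ w₀)⁻¹) * (toUnit X ≫ w)⁻¹ *
            ((toUnit X ≫ w) * (toUnit X ≫ w₀)) := by group
      _ = (C ≫ i) * ((toUnit X ≫ w) * (toUnit X ≫ w₀)) := by rw [h0, h4]
  let σ := sys hpp hpm h2 hF (𝟙_ (Over S))
  have hinv : (w₀ : 𝟙_ (Over S) ⟶ G)⁻¹ = σ.I (σ.av (-1)) * w₀ := by
    show (σ.w 1 (-1))⁻¹ = σ.I (σ.av (-1)) * σ.w 1 (-1)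
    rw [σ.w_inv, ← σ.w_smul 1 (-1) (by rw [_root_.mul_one]) (-1)]
    simp
  refine ⟨t₀ * σ.av (-1), ?_⟩
  calc w = (w * w₀) * w₀⁻¹ := by rw [mul_inv_cancel_right]
    _ = (t₀ ≫ i) * (σ.I (σ.av (-1)) * w₀) := by rw [← ht₀, hinv]
    _ = _ := by rw [MonObj.mul_comp, _root_.mul_assoc]; rfl

end Groth.Agent.RankOneCellLib
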